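/-
Evaluation of words in monomial elements and Conway's element on lists of coordinates, and
congruence modulo `2Λ` by computation.
-/
import Cfsg.Agent.Lib.Leech.Simple
import Cfsg.Agent.Lib.Mathieu.Stab.Labelled
import Cfsg.Agent.Lib.Mathieu.SylowTwo
import Cfsg.Agent.Lib.Mathieu.Rigid

set_option autoImplicit false

namespace Cfsg.Agent.Leech.Fixed

open Cfsg Cfsg.Agent.Leech Finset

/-- The vector of a list of coordinates in the order of `Mathieu.ptEnc`. -/
def toVec (L : List ℤ) : GolayPt → ℤ := fun i => L.getD (Mathieu.ptEnc i).val 0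

/-- The list of a function of the index. -/
def tabN (f : ℕ → ℤ) : List ℤ := (List.range 24).map f

theorem getD_tabN (f : ℕ → ℤ) {j : ℕ} (hj : j < 24) : (tabN f).getD j 0 = f j := by
  rw [tabN, List.getD_eq_getElem _ _ (by simpa using hj), List.getElem_map, List.getElem_range]

theorem toVec_tabN (f : ℕ → ℤ) (i : GolayPt) : toVec (tabN f) i = f (Mathieu.ptEnc i).val :=
  getD_tabN f (Mathieu.ptEnc i).isLt

/-- The list of a vector. -/
def tabV (v : GolayPt → ℤ) : List ℤ := tabN fun j => v (Mathieu.idx Mathieu.ptEnc j)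

theorem toVec_tabV (v : GolayPt → ℤ) : toVec (tabV v) = v := by
  funext i
  rw [tabV, toVec_tabN]
  congr 1
  simp [Mathieu.idx]

/-- `f a`, written so that the kernel computes the integer `a` first. -/
def forceI {β : Sort*} (a : ℤ) (f : ℤ → β) : β :=
  match a with
  | Int.ofNat n => Mathieu.force n fun m => f (Int.ofNat m)
  | Int.negSucc n => Mathieu.force n fun m => f (Int.negSucc m)

theorem forceI_eq {β : Sort*} (a : ℤ) (f : ℤ → β) : forceI a f = f a := by
  cases a <;> simp [forceI, Mathieu.force_eq]

/-- `f L`, written so that the kernel computes the entries of `L` first. -/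
def strictL {β : Sort*} : List ℤ → (List ℤ → β) → β
  | [], f => f []
  | a :: r, f => forceI a fun b => strictL r fun t => f (b :: t)

theorem strictL_eq {β : Sort*} : ∀ (L : List ℤ) (f : List ℤ → β), strictL L f = f L
  | [], f => rfl
  | a :: r, f => by rw [strictL, forceI_eq, strictL_eq r]

/-- The tetrads by index. -/
def tetIdx : List (Fin 6) :=
  [0, 0, 0, 3, 1, 3, 4, 4, 5, 2, 2, 5, 5, 1, 3, 2, 1, 3, 5, 4, 2, 4, 1, 0]

/-- Conway's element on lists. -/
def xiL (L : List ℤ) : List ℤ :=
  let s : List ℤ := (List.range 6).map fun k =>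
    ∑ j : Fin 24, if (tetIdx.getD j.val 0).val = k then L.getD j.val 0 else 0
  tabN fun j => tetSign (tetIdx.getD j 0) * (L.getD j 0 - s.getD (tetIdx.getD j 0).val 0 / 2)

theorem toVec_xiL (L : List ℤ) : toVec (xiL L) = xiFun (toVec L) := by
  funext i
  rw [xiL, toVec_tabN]
  have ht : tetIdx.getD (Mathieu.ptEnc i).val 0 = tet i := rfl
  rw [ht]
  show _ = tetSign (tet i) * (toVec L i - tetSum (toVec L) (tet i) / 2)
  rw [List.getD_eq_getElem ((List.range 6).map _) _ (n := (tet i).val)
    (by rw [List.length_map, List.length_range]; exact (tet i).isLt),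
    List.getElem_map, List.getElem_range]
  congr 2
  congr 1
  rw [tetSum, sum_filter]
  symm
  refine Fintype.sum_equiv Mathieu.ptEnc _ _ fun p => ?_
  simp only [toVec, show tetIdx.getD (Mathieu.ptEnc p).val 0 = tet p from rfl, Fin.val_inj]

/-- A monomial map on lists: `li` is the packed inverse of the permutation, `c` the mask of the signs. -/
def monoL (li c : ℕ) (L : List ℤ) : List ℤ :=
  tabN fun j => if c.testBit j then -(L.getD (Mathieu.app li j) 0) else L.getD (Mathieu.app li j) 0

/-- The permutation with packed inverse `li`. -/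
noncomputable def permOf (li : ℕ) (h : Mathieu.mem24 li = true) : M24 :=
  ⟨(Mathieu.decode li)⁻¹, M24.inv_mem (Mathieu.mem24_sound _ li (Mathieu.rep_decode (by
    rw [Mathieu.mem24, Bool.and_eq_true] at h
    exact h.1)) h)⟩

theorem rep_permOf {li : ℕ} (h : Mathieu.mem24 li = true) :
    Mathieu.Rep Mathieu.ptEnc ((permOf li h : Equiv.Perm GolayPt)⁻¹) li := by
  rw [permOf, inv_inv]
  refine Mathieu.rep_decode ?_
  rw [Mathieu.mem24, Bool.and_eq_true] at h
  exact h.1

theorem toVec_monoL_zero {li : ℕ} (h : Mathieu.mem24 li = true) (L : List ℤ) (v : leechLattice)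
    (hv : (v : GolayPt → ℤ) = toVec L) :
    ((permHom (permOf li h) • v : leechLattice) : GolayPt → ℤ) = toVec (monoL li 0 L) := by
  funext i
  show ((permElt (permOf li h) (permOf li h).2 • v : leechLattice) : GolayPt → ℤ) i = _
  simp only [permElt_smul, monoL, toVec_tabN, hv, Nat.zero_testBit, Bool.false_eq_true, if_false]
  show L.getD (Mathieu.ptEnc ((permOf li h : Equiv.Perm GolayPt)⁻¹ i)).val 0 = _
  rw [rep_permOf h i]

/-- A move: Conway's element, or a monomial element. -/
abbrev Move : Type := Option (ℕ × ℕ)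

/-- Validity of a move. -/
def moveOK : Move → Bool
  | none => true
  | some (li, c) => Mathieu.mem24 li && Mathieu.inCode c

/-- A move on lists. -/
def moveL : Move → List ℤ → List ℤ
  | none, L => xiL L
  | some (li, c), L => monoL li c L

/-- The element of a move. -/
noncomputable def moveElt : Move → Co0
  | none => xiElt
  | some (li, c) => if h : Mathieu.mem24 li = true ∧ Mathieu.inCode c = true then
      signElt (Mathieu.wordOf c) (Mathieu.wordOf_mem_of_inCode h.2) * permHom (permOf li h.1) else 1

theorem toVec_moveL {m : Move} (hm : moveOK m = true) (L : List ℤ) (v : leechLattice)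
    (hv : (v : GolayPt → ℤ) = toVec L) :
    ((moveElt m • v : leechLattice) : GolayPt → ℤ) = toVec (moveL m L) := by
  rcases m with _ | ⟨li, c⟩
  · rw [moveElt, xiElt_smul, hv, moveL, toVec_xiL]
  · simp only [moveOK, Bool.and_eq_true] at hm
    rw [moveElt, dif_pos hm, mul_smul, signElt_smul, toVec_monoL_zero hm.1 L v hv]
    funext i
    rw [moveL]
    simp only [signFun, monoL, toVec_tabN, Nat.zero_testBit, mem_supp, Mathieu.wordOf, Mathieu.hasPt]
    by_cases hb : c.testBit (Mathieu.ptEnc i).val = true <;> simp [hb]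

/-- A word on lists, applied from the right. -/
def wordL : List Move → List ℤ → List ℤ
  | [], L => L
  | m :: w, L => strictL (wordL w L) (moveL m)

/-- The element of a word. -/
noncomputable def wordElt (w : List Move) : Co0 := (w.map moveElt).prod

theorem toVec_wordL : ∀ {w : List Move}, w.all moveOK = true → ∀ (L : List ℤ) (v : leechLattice),
    (v : GolayPt → ℤ) = toVec L → ((wordElt w • v : leechLattice) : GolayPt → ℤ) = toVec (wordL w L)
  | [], _, L, v, hv => by simp [wordElt, wordL, hv]
  | m :: w, h, L, v, hv => by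
    rw [List.all_cons, Bool.and_eq_true] at h
    show ((((m :: w).map moveElt).prod • v : leechLattice) : GolayPt → ℤ) = _
    rw [List.map_cons, List.prod_cons, mul_smul]
    rw [wordL, strictL_eq]
    exact toVec_moveL h.1 _ _ (toVec_wordL h.2 L v hv)

/-! ### Congruence modulo `2Λ` -/

/-- `A ≡ B` modulo `2Λ`, by computation. -/
def congB (A₀ B₀ : List ℤ) : Bool :=
  strictL A₀ fun A => strictL B₀ fun B =>
  ((List.range 24).all fun j => decide (2 ∣ A.getD j 0 - B.getD j 0)) &&
    strictL (tabN fun j => (A.getD j 0 - B.getD j 0) / 2) fun C => inLB (toVec C)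

theorem clsV_of_congB {A B : List ℤ} (h : congB A B = true) {v w : leechLattice}
    (hv : (v : GolayPt → ℤ) = toVec A) (hw : (w : GolayPt → ℤ) = toVec B) : clsV v = clsV w := by
  simp only [congB, strictL_eq, Bool.and_eq_true, List.all_eq_true, List.mem_range, decide_eq_true_eq] at h
  refine clsV_eq_iff.2 ⟨⟨_, mem_leechLattice.2 (inL_of_inLB h.2)⟩, Subtype.ext (funext fun i => ?_)⟩
  rw [AddSubgroup.coe_sub, AddSubgroup.coe_add, hv, hw, Pi.sub_apply, Pi.add_apply]
  simp only [toVec_tabN]
  obtain ⟨k, hk⟩ := h.1 _ (Mathieu.ptEnc i).isLt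
  show A.getD (Mathieu.ptEnc i).val 0 - B.getD (Mathieu.ptEnc i).val 0 = _
  omega

/-- The dot product of lists. -/
def dotL (A B : List ℤ) : ℤ := ∑ j : Fin 24, A.getD j.val 0 * B.getD j.val 0

theorem dotInt_toVec (A B : List ℤ) : dotInt (toVec A) (toVec B) = dotL A B :=
  Fintype.sum_equiv Mathieu.ptEnc _ _ fun _ => rfl

theorem sqNorm_toVec (A : List ℤ) : sqNorm (toVec A) = dotL A A := by
  rw [← dotInt_toVec]
  exact sum_congr rfl fun i _ => sq _

/-- The vector of a list in the lattice. -/
def lat (L : List ℤ) (h : inLB (toVec L) = true) : leechLattice :=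
  ⟨toVec L, mem_leechLattice.2 (inL_of_inLB h)⟩

/-- Commutation of a word with a permutation, on the vectors `8 e_i`. -/
def commB (li : ℕ) (w : List Move) : Bool :=
  (List.range 24).all fun k =>
    wordL w (monoL li 0 (tabN fun j => if j = k then 8 else 0)) ==
      monoL li 0 (wordL w (tabN fun j => if j = k then 8 else 0))

theorem toVec_eight (i : GolayPt) :
    ((eight i : leechLattice) : GolayPt → ℤ) =
      toVec (tabN fun j => if j = (Mathieu.ptEnc i).val then 8 else 0) := by
  funext k
  rw [eight_val, toVec_tabN, Pi.single_apply]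
  simp only [Fin.val_inj, Mathieu.ptEnc.injective.eq_iff]

theorem commute_of_commB {li : ℕ} (h : Mathieu.mem24 li = true) {w : List Move}
    (hw : w.all moveOK = true) (hc : commB li w = true) :
    wordElt w * permHom (permOf li h) = permHom (permOf li h) * wordElt w := by
  simp only [commB, List.all_eq_true, List.mem_range, beq_iff_eq] at hc
  refine co0_ext _ _ fun i => Subtype.ext ?_
  rw [mul_smul, mul_smul, toVec_wordL hw _ _ (toVec_monoL_zero h _ _ (toVec_eight i)),
    toVec_monoL_zero h _ _ (toVec_wordL hw _ _ (toVec_eight i))]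
  exact congrArg toVec (hc _ (Mathieu.ptEnc i).isLt)

end Cfsg.Agent.Leech.Fixed
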