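/-
The classes modulo `2Λ` fixed by an element of odd order of M24, and the action of its centraliser
in `Co0` on them.
-/
import Cfsg.Agent.Lib.Leech.Fixed.WordEval
import Cfsg.Agent.Lib.Leech.ModTwo

set_option autoImplicit false

namespace Cfsg.Agent.Leech.Fixed

open Cfsg Cfsg.Agent.Leech Finset

/-! ### Congruence -/

theorem clsV_add {a b a' b' : leechLattice} (h : clsV a = clsV a') (h' : clsV b = clsV b') :
    clsV (a + b) = clsV (a' + b') := by
  obtain ⟨u, hu⟩ := clsV_eq_iff.1 h
  obtain ⟨u', hu'⟩ := clsV_eq_iff.1 h'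
  refine clsV_eq_iff.2 ⟨u + u', ?_⟩
  rw [add_sub_add_comm, hu, hu']
  abel

theorem sixteen_dvd_dot {v w : leechLattice} (h : clsV v = clsV w) (x : leechLattice) :
    16 ∣ dotInt (v : GolayPt → ℤ) (x : GolayPt → ℤ) - dotInt (w : GolayPt → ℤ) (x : GolayPt → ℤ) := by
  obtain ⟨u, hu⟩ := clsV_eq_iff.1 h
  have e : (v : GolayPt → ℤ) = ((w : GolayPt → ℤ) + (u : GolayPt → ℤ)) + (u : GolayPt → ℤ) := by
    rw [sub_eq_iff_eq_add] at hu
    rw [hu, AddSubgroup.coe_add, AddSubgroup.coe_add]
    abel
  obtain ⟨k, hk⟩ := dot_eight_dvd u x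
  refine ⟨k, ?_⟩
  rw [e]
  simp only [dotInt, Pi.add_apply, add_mul, sum_add_distrib] at hk ⊢
  rw [hk]; ring

theorem permHom_inj : Function.Injective permHom := by
  intro σ τ h
  refine Subtype.ext (Equiv.ext fun p => ?_)
  have h1 := congrArg (fun g => ((g • eight p : leechLattice) : GolayPt → ℤ) ((σ : Equiv.Perm GolayPt) p)) h
  change ((permElt σ σ.2 • eight p : leechLattice) : GolayPt → ℤ) _ =
    ((permElt τ τ.2 • eight p : leechLattice) : GolayPt → ℤ) _ at h1
  simp only [permElt_smul, eight_val, Equiv.symm_apply_apply, Pi.single_eq_same] at h1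
  by_contra hne
  rw [Pi.single_eq_of_ne] at h1
  · norm_num at h1
  · intro e
    exact hne ((Equiv.symm_apply_eq _).1 e)

/-- Data: an odd prime `p`, the packed inverse `li` of a permutation, a basis of the fixed classes. -/
structure Data where
  /-- the order -/
  p : ℕ
  /-- the number of basis vectors -/
  d : ℕ
  /-- the packed inverse of the permutation -/
  li : ℕ
  /-- the basis -/
  basis : Fin d → List ℤ

namespace Data

variable (D : Data)

/-- The coordinates of fixed classes. -/
abbrev F : Type := Fin D.d → ZMod 2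

/-- A combination of the basis, as a list. -/
def combL (m : D.F) : List ℤ :=
  tabN fun j => ∑ k, if m k = 1 then (D.basis k).getD j 0 else 0

/-- The sum of the images under the powers of the permutation. -/
def traceL : ℕ → List ℤ → List ℤ
  | 0, L => L
  | n + 1, L => strictL (monoL D.li 0 L) fun L' =>
    strictL (traceL n L') fun M => tabN fun j => L.getD j 0 + M.getD j 0

/-- The checks. -/
structure OK : Prop where
  mem : Mathieu.mem24 D.li = true
  odd : Odd D.p
  order : (isPrime : Nat.Prime D.p) → orderOf (permOf D.li mem) = D.p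
  prime : Nat.Prime D.p
  basis_lat : ∀ k, inLB (toVec (D.basis k)) = true
  basis_fix : ∀ k, monoL D.li 0 (D.basis k) = D.basis k
  basis_len : ∀ k, tabN (fun j => (D.basis k).getD j 0) = D.basis k
  span : ∀ i : Fin latGens.length, ∃ m : D.F,
    congB (D.traceL (D.p - 1) (tabV (latGens.get i))) (D.combL m) = true
  indep : ∀ m : D.F, m ≠ 0 → ∃ k, ¬ 16 ∣ dotL (D.combL m) (D.basis k)

namespace OK

variable {D} (hD : D.OK)

include hD

/-- The permutation. -/
noncomputable def σ : M24 := permOf D.li hD.mem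

/-- The element of `Co0`. -/
noncomputable def g : Co0 := permHom hD.σ

theorem orderOf_σ : orderOf hD.σ = D.p := hD.order hD.prime

theorem orderOf_g : orderOf hD.g = D.p := by
  rw [g, orderOf_injective permHom permHom_inj, hD.orderOf_σ]

/-- A basis vector. -/
def vec (k : Fin D.d) : leechLattice := lat (D.basis k) (hD.basis_lat k)

theorem g_vec (k : Fin D.d) : hD.g • hD.vec k = hD.vec k :=
  Subtype.ext ((toVec_monoL_zero hD.mem _ (hD.vec k) rfl).trans (congrArg toVec (hD.basis_fix k)))

/-- A combination of the basis. -/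
def comb (m : D.F) : leechLattice := ∑ k, if m k = 1 then hD.vec k else 0

theorem comb_val (m : D.F) : (hD.comb m : GolayPt → ℤ) = toVec (D.combL m) := by
  funext i
  rw [comb, AddSubgroup.val_finset_sum, Finset.sum_apply, combL, toVec_tabN]
  refine sum_congr rfl fun k _ => ?_
  split_ifs <;> rfl

theorem g_comb (m : D.F) : hD.g • hD.comb m = hD.comb m := by
  rw [comb, show hD.g • (∑ k, if m k = 1 then hD.vec k else 0) =
    actHom hD.g (∑ k, if m k = 1 then hD.vec k else 0) from rfl, map_sum]
  refine sum_congr rfl fun k _ => ?_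
  split_ifs
  · exact hD.g_vec k
  · exact map_zero _

theorem comb_zero : hD.comb 0 = 0 := by simp [comb]

theorem comb_add (a b : D.F) : clsV (hD.comb (a + b)) = clsV (hD.comb a + hD.comb b) := by
  refine clsV_eq_iff.2 ⟨-∑ k, if a k = 1 ∧ b k = 1 then hD.vec k else 0, ?_⟩
  simp only [comb, ← sum_add_distrib, ← sum_sub_distrib, ← sum_neg_distrib]
  refine sum_congr rfl fun k _ => ?_
  rcases zmod2_cases (a k) with h | h <;> rcases zmod2_cases (b k) with h' | h' <;>
    simp [h, h', show (1 : ZMod 2) + 1 = 0 from by decide]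

theorem eq_zero_of_cls {m : D.F} (h : clsV (hD.comb m) = clsV 0) : m = 0 := by
  by_contra hm
  obtain ⟨k, hk⟩ := hD.indep m hm
  refine hk ?_
  have := sixteen_dvd_dot h (hD.vec k)
  rwa [hD.comb_val, show (hD.vec k : GolayPt → ℤ) = toVec (D.basis k) from rfl, dotInt_toVec,
    show dotInt ((0 : leechLattice) : GolayPt → ℤ) (toVec (D.basis k)) = 0 by simp [dotInt],
    sub_zero] at this

theorem comb_injective {a b : D.F} (h : clsV (hD.comb a) = clsV (hD.comb b)) : a = b := by
  have h1 : clsV (hD.comb (a + b)) = clsV 0 := by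
    rw [hD.comb_add, clsV_add h rfl]
    exact clsV_eq_iff.2 ⟨hD.comb b, by rw [sub_zero]⟩
  have := hD.eq_zero_of_cls h1
  funext k
  have hk : a k + b k = 0 := congrFun this k
  rcases zmod2_cases (a k) with e | e <;> rcases zmod2_cases (b k) with e' | e' <;>
    simp [e, e'] at hk ⊢

/-! ### Fixed classes -/

/-- The class of `v` is fixed by `g`. -/
def Fixed (v : leechLattice) : Prop := clsV (hD.g • v) = clsV v

theorem traceL_val : ∀ (n : ℕ) (L : List ℤ) (v : leechLattice), (v : GolayPt → ℤ) = toVec L →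
    ((∑ i ∈ range (n + 1), hD.g ^ i • v : leechLattice) : GolayPt → ℤ) = toVec (D.traceL n L)
  | 0, L, v, hv => by simp [traceL, hv]
  | n + 1, L, v, hv => by
    rw [sum_range_succ', pow_zero, one_smul]
    simp only [pow_succ, mul_smul]
    rw [AddSubgroup.coe_add, traceL_val n (monoL D.li 0 L) (hD.g • v) (toVec_monoL_zero hD.mem L v hv),
      hv]
    funext i
    rw [traceL, strictL_eq, strictL_eq, toVec_tabN, Pi.add_apply, add_comm]
    rfl

theorem trace_span (v : leechLattice) :
    ∃ m, clsV (∑ i ∈ range D.p, hD.g ^ i • v) = clsV (hD.comb m) := by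
  have hp : D.p - 1 + 1 = D.p := Nat.sub_add_cancel hD.prime.one_lt.le
  suffices ∀ x ∈ AddSubgroup.closure {g : GolayPt → ℤ | g ∈ latGens}, ∃ (hx : x ∈ leechLattice)
      (m : D.F), clsV (∑ i ∈ range D.p, hD.g ^ i • (⟨x, hx⟩ : leechLattice)) = clsV (hD.comb m) by
    obtain ⟨_, h⟩ := this (v : GolayPt → ℤ) (mem_closure_latGens (mem_leechLattice.1 v.2))
    exact h
  intro x hx
  induction hx using AddSubgroup.closure_induction with
  | mem y hy =>
    obtain ⟨i, rfl⟩ := List.mem_iff_get.1 hy
    have hok := List.all_eq_true.1 latGens_ok _ hy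
    rw [Bool.and_eq_true] at hok
    obtain ⟨m, hm⟩ := hD.span i
    refine ⟨mem_leechLattice.2 (inL_of_inLB hok.1), m, clsV_of_congB hm ?_ (hD.comb_val m)⟩
    have := hD.traceL_val (D.p - 1) (tabV (latGens.get i))
      ⟨latGens.get i, mem_leechLattice.2 (inL_of_inLB hok.1)⟩ (toVec_tabV _).symm
    rwa [hp] at this
  | zero =>
    refine ⟨zero_mem _, 0, ?_⟩
    rw [hD.comb_zero]
    congr 1
    exact sum_eq_zero fun i _ => map_zero (actHom (hD.g ^ i))
  | add a b _ _ ha hb =>
    obtain ⟨ha, m, hm⟩ := ha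
    obtain ⟨hb, m', hm'⟩ := hb
    refine ⟨add_mem ha hb, m + m', ?_⟩
    rw [hD.comb_add, ← clsV_add hm hm', ← sum_add_distrib]
    congr 1
    exact sum_congr rfl fun i _ => co0_add (hD.g ^ i) ⟨a, ha⟩ ⟨b, hb⟩
  | neg a _ ha =>
    obtain ⟨ha, m, hm⟩ := ha
    refine ⟨neg_mem ha, m, ?_⟩
    rw [← hm]
    refine clsV_eq_iff.2 ⟨∑ i ∈ range D.p, hD.g ^ i • (⟨-a, neg_mem ha⟩ : leechLattice), ?_⟩
    rw [sub_eq_add_neg, ← sum_neg_distrib]
    congr 1
    exact sum_congr rfl fun i _ => (co0_neg (hD.g ^ i) ⟨a, ha⟩).symm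

theorem exists_coord {v : leechLattice} (hv : hD.Fixed v) : ∃ m, clsV v = clsV (hD.comb m) := by
  obtain ⟨m, hm⟩ := hD.trace_span v
  refine ⟨m, ?_⟩
  rw [← hm]
  have key : ∀ i, clsV (hD.g ^ i • v) = clsV v := by
    intro i
    induction i with
    | zero => rw [pow_zero, one_smul]
    | succ i ih => rw [pow_succ', mul_smul]; exact (clsV_smul ih).trans hv
  have hsum : ∀ n : ℕ, clsV (∑ i ∈ range n, hD.g ^ i • v) = clsV (n • v) := by
    intro n
    induction n with
    | zero => simp
    | succ n ih => rw [sum_range_succ, succ_nsmul]; exact clsV_add ih (key n)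
  rw [hsum]
  obtain ⟨k, hk⟩ := hD.odd
  refine clsV_eq_iff.2 ⟨-(k • v), ?_⟩
  rw [hk, add_nsmul, one_nsmul, two_mul, add_nsmul]
  abel

/-- The coordinates of a fixed class. -/
noncomputable def coord (v : leechLattice) : D.F := by
  classical exact if h : hD.Fixed v then (hD.exists_coord h).choose else 0

theorem coord_spec {v : leechLattice} (hv : hD.Fixed v) : clsV v = clsV (hD.comb (hD.coord v)) := by
  rw [coord, dif_pos hv]
  exact (hD.exists_coord hv).choose_spec

theorem coord_eq {v : leechLattice} (hv : hD.Fixed v) {m : D.F} (h : clsV v = clsV (hD.comb m)) :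
    hD.coord v = m := hD.comb_injective ((hD.coord_spec hv).symm.trans h)

theorem fixed_comb (m : D.F) : hD.Fixed (hD.comb m) := congrArg clsV (hD.g_comb m)

theorem fixed_congr {v w : leechLattice} (h : clsV v = clsV w) (hv : hD.Fixed v) : hD.Fixed w :=
  ((clsV_smul h).symm.trans hv).trans h

theorem coord_comb (m : D.F) : hD.coord (hD.comb m) = m := hD.coord_eq (hD.fixed_comb m) rfl

theorem coord_congr {v w : leechLattice} (h : clsV v = clsV w) (hv : hD.Fixed v) :
    hD.coord v = hD.coord w :=
  hD.coord_eq hv (h.trans (hD.coord_spec (hD.fixed_congr h hv)))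

/-! ### The centraliser -/

/-- The centraliser of `g`. -/
noncomputable def C0 : Subgroup Co0 := Subgroup.centralizer {hD.g}

theorem mem_C0 {h : Co0} : h ∈ hD.C0 ↔ h * hD.g = hD.g * h :=
  Subgroup.mem_centralizer_singleton_iff

theorem fixed_smul (h : hD.C0) {v : leechLattice} (hv : hD.Fixed v) : hD.Fixed ((h : Co0) • v) := by
  rw [Fixed, ← mul_smul, ← hD.mem_C0.1 h.2, mul_smul]
  exact clsV_smul hv

/-- The action on the fixed classes. -/
noncomputable def act (h : hD.C0) (m : D.F) : D.F := hD.coord ((h : Co0) • hD.comb m)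

theorem act_coord (h : hD.C0) {v : leechLattice} (hv : hD.Fixed v) :
    hD.act h (hD.coord v) = hD.coord ((h : Co0) • v) :=
  hD.coord_congr (clsV_smul (hD.coord_spec hv).symm) (hD.fixed_smul h (hD.fixed_comb _))

theorem act_mul (h h' : hD.C0) (m : D.F) : hD.act (h * h') m = hD.act h (hD.act h' m) := by
  show hD.coord (((h : Co0) * (h' : Co0)) • hD.comb m) = hD.act h (hD.coord _)
  rw [hD.act_coord h (hD.fixed_smul h' (hD.fixed_comb m)), mul_smul]

theorem act_one (m : D.F) : hD.act 1 m = m := by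
  rw [act, OneMemClass.coe_one, one_smul, coord_comb]

theorem act_add (h : hD.C0) (a b : D.F) : hD.act h (a + b) = hD.act h a + hD.act h b := by
  refine hD.coord_eq (hD.fixed_smul h (hD.fixed_comb _)) ?_
  rw [hD.comb_add, clsV_smul (hD.comb_add a b), co0_add]
  exact clsV_add (hD.coord_spec (hD.fixed_smul h (hD.fixed_comb a)))
    (hD.coord_spec (hD.fixed_smul h (hD.fixed_comb b)))

/-- The action as a homomorphism. -/
noncomputable def perm : hD.C0 →* Equiv.Perm D.F :=
  MonoidHom.mk' (fun h => ⟨hD.act h, hD.act h⁻¹,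
    fun m => by rw [← hD.act_mul, inv_mul_cancel, hD.act_one],
    fun m => by rw [← hD.act_mul, mul_inv_cancel, hD.act_one]⟩)
    fun a b => Equiv.ext fun m => hD.act_mul a b m

theorem perm_apply (h : hD.C0) (m : D.F) : hD.perm h m = hD.act h m := rfl

/-- A centralising element given by a word, with the images of the basis. -/
theorem act_word {w : List Move} (hw : w.all moveOK = true) (hc : commB D.li w = true)
    {cols : Fin D.d → D.F} (hcols : ∀ k, congB (wordL w (D.basis k)) (D.combL (cols k)) = true) :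
    ∃ hmem : wordElt w ∈ hD.C0, ∀ m,
      hD.act ⟨wordElt w, hmem⟩ m = ∑ k, if m k = 1 then cols k else 0 := by
  refine ⟨hD.mem_C0.2 (commute_of_commB hD.mem hw hc), fun m => ?_⟩
  set h : hD.C0 := ⟨wordElt w, hD.mem_C0.2 (commute_of_commB hD.mem hw hc)⟩ with hh
  let f : D.F →+ D.F := AddMonoidHom.mk' (hD.act h) (hD.act_add h)
  have hb : ∀ k, hD.act h (Pi.single k 1) = cols k := by
    intro k
    refine hD.coord_eq (hD.fixed_smul h (hD.fixed_comb _)) ?_
    have e : hD.comb (Pi.single k 1) = hD.vec k := by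
      rw [comb, Fintype.sum_eq_single k fun j hj => by simp [Pi.single_eq_of_ne hj], Pi.single_eq_same,
        if_pos rfl]
    rw [e]
    exact clsV_of_congB (hcols k) (toVec_wordL hw _ _ rfl) (hD.comb_val _)
  have hm : m = ∑ k, if m k = 1 then Pi.single k (1 : ZMod 2) else 0 := by
    funext i
    rw [Finset.sum_apply, Fintype.sum_eq_single i fun j hj => by
      split_ifs <;> simp [Pi.single_eq_of_ne hj.symm]]
    rcases zmod2_cases (m i) with e | e <;> simp [e]
  show f m = _
  conv_lhs => rw [hm]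
  rw [map_sum]
  refine sum_congr rfl fun k _ => ?_
  split_ifs
  · exact hb k
  · exact map_zero f

end OK

end Data

end Cfsg.Agent.Leech.Fixed
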