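/-
The centraliser in `Co0` of an element of M24 of odd prime order: a bound on its order by orbit and
stabiliser on the fixed classes of norm 64, and its quotient acting on a family of sets of fixed classes.
-/
import Cfsg.Agent.Lib.Leech.Fixed.Classes

set_option autoImplicit false

namespace Cfsg.Agent.Leech.Fixed

open Cfsg Cfsg.Agent.Leech Finset

/-- The mask is fixed by the permutation. -/
def fixMask (li m : ℕ) : Bool :=
  (List.range 24).all fun j => m.testBit (Mathieu.app li j) == m.testBit j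

theorem mono_decomp_unique {c c' : GolayPt → ZMod 2} {hc : c ∈ golayCode} {hc' : c' ∈ golayCode}
    {τ τ' : M24} (h : signElt c hc * permHom τ = signElt c' hc' * permHom τ') : c = c' ∧ τ = τ' := by
  have := monoElt_injective (a₁ := (τ, ⟨c, hc⟩)) (a₂ := (τ', ⟨c', hc'⟩)) h
  exact ⟨congrArg (fun p => (p.2 : GolayPt → ZMod 2)) this, congrArg Prod.fst this⟩

namespace Data

/-- Coordinates of the classes of norm 64, certified by short representatives. -/
def TypeCert (D : Data) (S : Finset D.F) (short : D.F → List ℤ) : Prop :=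
  ∀ m, inLB (toVec (short m)) = true ∧ congB (short m) (D.combL m) = true ∧
    if m ∈ S then dotL (short m) (short m) = 64 else dotL (short m) (short m) < 64

/-- A generator of the quotient: a word centralising `g`, the images of the basis and the
permutation induced on the family. -/
structure Gen (D : Data) (n : ℕ) (T : Fin n → Finset D.F) where
  /-- the word -/
  w : List Move
  /-- the images of the basis -/
  cols : Fin D.d → D.F
  /-- the permutation -/
  τ : Equiv.Perm (Fin n)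
  ok : w.all moveOK = true
  comm : commB D.li w = true
  img : ∀ k, congB (wordL w (D.basis k)) (D.combL (cols k)) = true
  maps : ∀ i, (T i).image (fun m => ∑ k, if m k = 1 then cols k else 0) = T (τ i)

namespace OK

variable {D : Data} (hD : D.OK)

include hD

theorem orderOf_negElt : orderOf negElt = 2 := by
  refine orderOf_eq_prime ?_ negElt_ne_one
  refine eq_of_smul_eq_smul (α := leechLattice) fun v => ?_
  rw [pow_two, mul_smul, negElt_smul, negElt_smul, neg_neg, one_smul]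

/-- `±⟨g⟩`. -/
noncomputable def Z : Subgroup Co0 := Subgroup.zpowers (negElt * hD.g)

theorem card_Z : Nat.card hD.Z = 2 * D.p := by
  have hc : Commute negElt hD.g := (Subgroup.mem_center_iff.1 negElt_mem_center hD.g).symm
  rw [Z, Nat.card_zpowers, hc.orderOf_mul_eq_mul_orderOf_of_coprime, hD.orderOf_negElt, hD.orderOf_g]
  rw [hD.orderOf_negElt, hD.orderOf_g]
  exact (Nat.coprime_two_left).2 hD.odd

theorem negElt_mem_C0 : negElt ∈ hD.C0 :=
  hD.mem_C0.2 (Subgroup.mem_center_iff.1 negElt_mem_center hD.g).symm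

theorem g_mem_C0 : hD.g ∈ hD.C0 := hD.mem_C0.2 rfl

theorem Z_le : hD.Z ≤ hD.C0 :=
  Subgroup.zpowers_le.2 (hD.C0.mul_mem hD.negElt_mem_C0 hD.g_mem_C0)

theorem negElt_mem_Z : negElt ∈ hD.Z := by
  refine Subgroup.mem_zpowers_iff.2 ⟨(D.p : ℤ), ?_⟩
  have hc : Commute negElt hD.g := (Subgroup.mem_center_iff.1 negElt_mem_center hD.g).symm
  obtain ⟨k, hk⟩ := hD.odd
  rw [zpow_natCast, hc.mul_pow, ← hD.orderOf_g, pow_orderOf_eq_one, mul_one, hD.orderOf_g, hk,
    pow_succ, pow_mul, ← hD.orderOf_negElt, pow_orderOf_eq_one, one_pow, one_mul]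

theorem g_mem_Z : hD.g ∈ hD.Z := by
  have h := hD.Z.mul_mem (hD.Z.inv_mem hD.negElt_mem_Z) (Subgroup.mem_zpowers (negElt * hD.g))
  rwa [inv_mul_cancel_left] at h

theorem act_Z {z : hD.C0} (hz : (z : Co0) ∈ hD.Z) (m : D.F) : hD.act z m = m := by
  have hg : hD.act ⟨negElt * hD.g, hD.C0.mul_mem hD.negElt_mem_C0 hD.g_mem_C0⟩ = id := by
    funext m
    refine hD.coord_eq (hD.fixed_smul _ (hD.fixed_comb m)) ?_
    show clsV ((negElt * hD.g) • hD.comb m) = _
    rw [mul_smul, hD.g_comb, negElt_smul]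
    exact clsV_eq_iff.2 ⟨-hD.comb m, by rw [sub_eq_add_neg]; rfl⟩
  obtain ⟨k, hk⟩ := Subgroup.mem_zpowers_iff.1 hz
  have hzk : z = (⟨negElt * hD.g, hD.C0.mul_mem hD.negElt_mem_C0 hD.g_mem_C0⟩ : hD.C0) ^ k :=
    Subtype.ext (by rw [← hk]; simp)
  have hp : hD.perm ⟨negElt * hD.g, hD.C0.mul_mem hD.negElt_mem_C0 hD.g_mem_C0⟩ = 1 :=
    Equiv.ext fun m => congrFun hg m
  rw [← hD.perm_apply, hzk, map_zpow, hp, one_zpow, Equiv.Perm.one_apply]

/-! ### Types of the fixed classes -/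

variable {S : Finset D.F} {short : D.F → List ℤ}

theorem coord_mem_iff (hS : D.TypeCert S short) {v : leechLattice} (hv : hD.Fixed v) :
    hD.coord v ∈ S ↔ ∃ w : leechLattice, sqNorm (w : GolayPt → ℤ) = 64 ∧ clsV v = clsV w := by
  obtain ⟨h1, h2, h3⟩ := hS (hD.coord v)
  set y : leechLattice := lat _ h1
  have hy : clsV v = clsV y :=
    (hD.coord_spec hv).trans (clsV_of_congB h2 rfl (hD.comb_val _)).symm
  have hn : sqNorm (y : GolayPt → ℤ) = dotL (short (hD.coord v)) (short (hD.coord v)) := sqNorm_toVec _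
  constructor
  · intro h
    rw [if_pos h, ← hn] at h3
    exact ⟨y, h3, hy⟩
  · rintro ⟨w, hw, hvw⟩
    by_contra h
    rw [if_neg h, ← hn] at h3
    obtain ⟨u, hu⟩ := clsV_eq_iff.1 (hy.symm.trans hvw)
    rcases congr_short (mem_leechLattice.1 w.2) (mem_leechLattice.1 u.2) (x := (y : GolayPt → ℤ))
        h3.le (by rw [hw]) (by rw [two_nsmul, ← AddSubgroup.coe_add, ← hu]; rfl) with e | e | e
    · rw [e, hw] at h3; norm_num at h3
    · have : sqNorm (-(w : GolayPt → ℤ)) = sqNorm (w : GolayPt → ℤ) := by simp [sqNorm]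
      rw [e, this, hw] at h3; norm_num at h3
    · omega

theorem fixed_eight : hD.Fixed (eight none) := by
  refine fixesStd_iff.1 ?_
  have h : hD.g = monoElt (hD.σ, ⟨0, zero_mem _⟩) := by
    refine eq_of_smul_eq_smul (α := leechLattice) fun v => Subtype.ext ?_
    rw [monoElt_smul]
    show ((permElt hD.σ hD.σ.2 • v : leechLattice) : GolayPt → ℤ) = _
    rw [permElt_smul]
    funext i
    simp [signedPerm, mem_supp]
  rw [h]
  exact monoElt_fixesStd _

theorem orbit_mem (hS : D.TypeCert S short) (h : hD.C0) :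
    hD.coord ((h : Co0) • eight none) ∈ S :=
  (hD.coord_mem_iff hS (hD.fixed_smul h hD.fixed_eight)).2
    ⟨(h : Co0) • eight none, (co0_norm _ _).trans (sqNorm_eight none), rfl⟩

theorem code_fixed {c : GolayPt → ZMod 2} (hc : c ∈ golayCode)
    (h : c ∘ (hD.σ : Equiv.Perm GolayPt).symm = c) {L : List ℕ}
    (hL : (Mathieu.codeList.all fun m => !fixMask D.li m || L.contains m) = true) :
    ∃ m ∈ L, c = Mathieu.wordOf m := by
  obtain ⟨m, hm, rfl⟩ := Mathieu.mem_golayCode_iff.1 hc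
  refine ⟨m, ?_, rfl⟩
  have hf : fixMask D.li m = true := by
    simp only [fixMask, List.all_eq_true, List.mem_range, beq_iff_eq]
    intro j hj
    have e := congrFun h (Mathieu.idx Mathieu.ptEnc j)
    simp only [Function.comp_apply, Mathieu.wordOf, Mathieu.hasPt] at e
    have r : (Mathieu.ptEnc ((hD.σ : Equiv.Perm GolayPt).symm (Mathieu.idx Mathieu.ptEnc j))).val =
        Mathieu.app D.li j := by
      have := rep_permOf hD.mem (Mathieu.idx Mathieu.ptEnc j)
      rwa [Mathieu.idx_val hj] at this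
    simp only [r, Mathieu.idx_val hj] at e
    cases h1 : m.testBit (Mathieu.app D.li j) <;> cases h2 : m.testBit j <;> simp [h1, h2] at e ⊢
  have := List.all_eq_true.1 hL m (Mathieu.inCode_iff_mem.1 hm)
  simpa [hf] using this

theorem mono_centralizer {h : Co0} (hh : h ∈ hD.C0) (hm : h ∈ monGrp) :
    ∃ (c : GolayPt → ZMod 2) (hc : c ∈ golayCode) (τ : M24), h = signElt c hc * permHom τ ∧
      c ∘ (hD.σ : Equiv.Perm GolayPt).symm = c ∧ τ * hD.σ = hD.σ * τ := by
  obtain ⟨τ, c, hc, rfl⟩ := mono_decomp hm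
  refine ⟨c, hc, τ, rfl, ?_⟩
  have e := hD.mem_C0.1 hh
  rw [mul_assoc, show hD.g = permHom hD.σ from rfl, ← map_mul, ← mul_assoc,
    mul_inv_eq_iff_eq_mul.1 (perm_conj_sign hD.σ hc), mul_assoc, ← map_mul] at e
  obtain ⟨e1, e2⟩ := mono_decomp_unique e
  exact ⟨e1.symm, e2⟩

/-- Orbit and stabiliser. -/
theorem card_C0_le (O : Finset D.F) (hO : ∀ h : hD.C0, hD.coord ((h : Co0) • eight none) ∈ O)
    {N : ℕ} (hN : Nat.card (Subgroup.centralizer ({hD.σ} : Set M24)) ≤ N) {L : List ℕ}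
    (hL : (Mathieu.codeList.all fun m => !fixMask D.li m || L.contains m) = true) :
    Nat.card hD.C0 ≤ O.card * (N * L.length) := by
  classical
  let f : hD.C0 → O := fun h => ⟨_, hO h⟩
  have hsec : ∀ o : O, ∃ k : hD.C0, (∃ h, f h = o) → f k = o := fun o => by
    by_cases he : ∃ h, f h = o
    · exact ⟨he.choose, fun _ => he.choose_spec⟩
    · exact ⟨1, fun h => absurd h he⟩
  choose k hk using hsec
  have hstab : ∀ h : hD.C0, ((k (f h))⁻¹ * h : hD.C0).1 ∈ monGrp := fun h => by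
    rw [mem_monGrp, fixesStd_iff]
    have e : hD.coord ((h : Co0) • eight none) = hD.coord ((k (f h) : Co0) • eight none) :=
      (congrArg Subtype.val (hk (f h) ⟨h, rfl⟩)).symm
    have e' : clsV ((h : Co0) • eight none) = clsV ((k (f h) : Co0) • eight none) := by
      rw [hD.coord_spec (hD.fixed_smul h hD.fixed_eight), e,
        ← hD.coord_spec (hD.fixed_smul _ hD.fixed_eight)]
    rw [Subgroup.coe_mul, Subgroup.coe_inv, mul_smul, ← clsV_smul_iff (g := (k (f h) : Co0)),
      smul_inv_smul]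
    exact e'
  choose c hc τ hh hfix hcom using fun h : hD.C0 => hD.mono_centralizer
    ((k (f h))⁻¹ * h : hD.C0).2 (hstab h)
  have hidx : ∀ h, ∃ i : Fin L.length, c h = Mathieu.wordOf L[i.val] := fun h => by
    obtain ⟨m, hm, e⟩ := hD.code_fixed (hc h) (hfix h) hL
    obtain ⟨i, hi, rfl⟩ := List.mem_iff_getElem.1 hm
    exact ⟨⟨i, hi⟩, e⟩
  choose idx hidx using hidx
  let F' : hD.C0 → O × (Subgroup.centralizer ({hD.σ} : Set M24) × Fin L.length) := fun h =>
    (f h, (⟨τ h, Subgroup.mem_centralizer_singleton_iff.2 (hcom h)⟩, idx h))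
  have hinj : Function.Injective F' := by
    intro a b e
    simp only [F', Prod.mk.injEq, Subtype.mk.injEq] at e
    obtain ⟨e1, e2, e3⟩ := e
    have hcab : c a = c b := by rw [hidx, hidx, e3]
    have h' : ((k (f a))⁻¹ * a : hD.C0).1 = ((k (f b))⁻¹ * b : hD.C0).1 := by
      rw [hh a, hh b, e2]
      simp only [hcab]
    have := Subtype.ext h'
    rw [e1] at this
    exact mul_left_cancel this
  calc Nat.card hD.C0 ≤ Nat.card (O × (Subgroup.centralizer ({hD.σ} : Set M24) × Fin L.length)) :=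
        Nat.card_le_card_of_injective F' hinj
    _ ≤ O.card * (N * L.length) := by
      rw [Nat.card_prod, Nat.card_prod, Nat.card_fin, Nat.card_eq_fintype_card, Fintype.card_coe]
      exact Nat.mul_le_mul_left _ (Nat.mul_le_mul_right _ hN)

/-! ### The quotient -/

/-- Elements permuting the family. -/
noncomputable def C1 {n : ℕ} (T : Fin n → Finset D.F) : Subgroup hD.C0 where
  carrier := {h | ∃ τ : Equiv.Perm (Fin n), ∀ i, (T i).image (hD.act h) = T (τ i)}
  one_mem' := ⟨1, fun i => by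
    rw [show hD.act 1 = id from funext hD.act_one, image_id, Equiv.Perm.one_apply]⟩
  mul_mem' := by
    rintro a b ⟨τ, hτ⟩ ⟨τ', hτ'⟩
    refine ⟨τ * τ', fun i => ?_⟩
    rw [show hD.act (a * b) = hD.act a ∘ hD.act b from funext (hD.act_mul a b), ← image_image, hτ', hτ,
      Equiv.Perm.mul_apply]
  inv_mem' := by
    rintro a ⟨τ, hτ⟩
    refine ⟨τ⁻¹, fun i => ?_⟩
    have h := hτ (τ⁻¹ i)
    rw [Equiv.Perm.coe_inv, Equiv.apply_symm_apply] at h
    rw [← h, image_image, show hD.act a⁻¹ ∘ hD.act a = id from funext fun m => by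
      rw [Function.comp_apply, ← hD.act_mul, inv_mul_cancel, hD.act_one]; rfl, image_id,
      Equiv.Perm.coe_inv]

/-- The quotient homomorphism. -/
theorem exists_quot {n : ℕ} (T : Fin n → Finset D.F) (hT : Function.Injective T)
    (gens : List (D.Gen n T)) (K : Subgroup (Equiv.Perm (Fin n)))
    (hK : K ≤ Subgroup.closure {τ | ∃ a ∈ gens, a.τ = τ})
    (hcard : Nat.card hD.C0 ≤ 2 * D.p * Nat.card K) :
    ∃ Ψ : hD.C0 →* Equiv.Perm (Fin n), Ψ.range = K ∧ (∀ h, Ψ h = 1 ↔ (h : Co0) ∈ hD.Z) ∧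
      ∀ h, (∀ m, hD.act h m = m) → Ψ h = 1 := by
  classical
  have hu : ∀ (h : hD.C1 T) (τ : Equiv.Perm (Fin n)), (∀ i, (T i).image (hD.act h.1) = T (τ i)) →
      τ = h.2.choose := fun h τ e =>
    Equiv.ext fun i => hT ((e i).symm.trans (h.2.choose_spec i))
  let Φ : hD.C1 T →* Equiv.Perm (Fin n) := MonoidHom.mk' (fun h => h.2.choose) fun a b =>
    (hu (a * b) _ fun i => by
      rw [show hD.act (a * b : hD.C1 T).1 = hD.act a.1 ∘ hD.act b.1 from funext (hD.act_mul a.1 b.1),
        ← image_image, b.2.choose_spec, a.2.choose_spec, Equiv.Perm.mul_apply]).symm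
  have htriv : ∀ h : hD.C0, (∀ m, hD.act h m = m) → ∃ hh : h ∈ hD.C1 T, Φ ⟨h, hh⟩ = 1 := by
    intro h hm
    have e : ∀ i, (T i).image (hD.act h) = T ((1 : Equiv.Perm (Fin n)) i) := fun i => by
      rw [show hD.act h = id from funext hm, image_id, Equiv.Perm.one_apply]
    exact ⟨⟨1, e⟩, (hu ⟨h, 1, e⟩ 1 e).symm⟩
  have hrange : K ≤ Φ.range := by
    refine hK.trans ((Subgroup.closure_le _).2 ?_)
    rintro _ ⟨a, -, rfl⟩
    obtain ⟨hmem, hact⟩ := hD.act_word a.ok a.comm a.img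
    have e : ∀ i, (T i).image (hD.act ⟨wordElt a.w, hmem⟩) = T (a.τ i) := fun i => by
      rw [← a.maps i]; exact image_congr fun m _ => hact m
    exact ⟨⟨⟨wordElt a.w, hmem⟩, a.τ, e⟩, (hu ⟨⟨wordElt a.w, hmem⟩, a.τ, e⟩ _ e).symm⟩
  let j : hD.Z → Φ.ker := fun x =>
    ⟨⟨⟨x.1, hD.Z_le x.2⟩, (htriv ⟨x.1, hD.Z_le x.2⟩ (hD.act_Z x.2)).1⟩,
      (htriv ⟨x.1, hD.Z_le x.2⟩ (hD.act_Z x.2)).2⟩
  have hj : Function.Injective j := fun a b e =>
    Subtype.ext (congrArg (fun x : Φ.ker => ((x.1.1 : hD.C0) : Co0)) e)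
  have hker : 2 * D.p ≤ Nat.card Φ.ker := hD.card_Z ▸ Nat.card_le_card_of_injective j hj
  have hle : Nat.card (hD.C1 T) ≤ Nat.card hD.C0 := Nat.card_le_card_of_injective _ Subtype.val_injective
  have heq : Nat.card (hD.C1 T) = Nat.card Φ.ker * Nat.card Φ.range := by
    rw [← Subgroup.card_mul_index Φ.ker, Subgroup.index_ker]
  have hKr : Nat.card K ≤ Nat.card Φ.range := Nat.le_of_dvd Nat.card_pos (Subgroup.card_dvd_of_le hrange)
  have hKpos : 0 < Nat.card K := Nat.card_pos
  have hppos : 0 < 2 * D.p := by have := hD.prime.pos; omega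
  have h1 : Nat.card Φ.ker * Nat.card Φ.range ≤ 2 * D.p * Nat.card K := (heq ▸ hle).trans hcard
  have hk : Nat.card Φ.ker = 2 * D.p := by
    refine le_antisymm ?_ hker
    exact Nat.le_of_mul_le_mul_right ((Nat.mul_le_mul_left _ hKr).trans h1) hKpos
  have hr : Nat.card Φ.range = Nat.card K := by
    refine le_antisymm ?_ hKr
    rw [hk] at h1
    exact Nat.le_of_mul_le_mul_left h1 hppos
  have htop : ∀ h : hD.C0, h ∈ hD.C1 T := by
    intro h
    have : hD.C1 T = ⊤ := Subgroup.eq_top_of_le_card _ (by rw [heq, hk, hr]; exact hcard)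
    rw [this]; trivial
  refine ⟨MonoidHom.mk' (fun h => Φ ⟨h, htop h⟩) fun a b => map_mul Φ (⟨a, htop a⟩ : hD.C1 T) ⟨b, htop b⟩,
    ?_, fun h => ?_, fun h hm => (htriv h hm).2⟩
  · refine le_antisymm ?_ fun x hx => ?_
    · rintro _ ⟨h, rfl⟩
      have : Φ.range = K := (Subgroup.eq_of_le_of_card_ge hrange hr.le).symm
      exact this ▸ ⟨_, rfl⟩
    · obtain ⟨a, rfl⟩ := hrange hx
      exact ⟨a.1, rfl⟩
  · refine ⟨fun e => ?_, fun hz => (htriv h (hD.act_Z hz)).2⟩
    have hb := (Nat.bijective_iff_injective_and_card j).2 ⟨hj, by rw [hD.card_Z, hk]⟩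
    obtain ⟨x, hx⟩ := hb.2 ⟨⟨h, htop h⟩, e⟩
    have : (x : Co0) = h := congrArg (fun y : Φ.ker => ((y.1.1 : hD.C0) : Co0)) hx
    exact this ▸ x.2

end OK

end Data

end Cfsg.Agent.Leech.Fixed
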