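/-
Bounds on centralisers in M24 and orders of permutations from packed data, and elements of `Co0`
inverting `g`.
-/
import Cfsg.Agent.Lib.Leech.Fixed.Quot
import Cfsg.Agent.Lib.Mathieu.OneBlockBase
import Cfsg.Agent.Lib.Mathieu.Hexads

set_option autoImplicit false

namespace Cfsg.Agent.Leech.Fixed

open Cfsg Cfsg.Agent.Leech

theorem rep_inv_coe {li : ℕ} (h : Mathieu.mem24 li = true) :
    Mathieu.Rep Mathieu.ptEnc (((permOf li h)⁻¹ : M24) : Equiv.Perm GolayPt) li := by
  rw [Subgroup.coe_inv]; exact rep_permOf h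

theorem orderOf_permOf {p li : ℕ} (hp : p.Prime) (h : Mathieu.mem24 li = true)
    (hk : (Mathieu.isId 24 (Mathieu.packPow 24 li p) &&
      !Mathieu.isId 24 (Mathieu.packPow 24 li 1)) = true) :
    orderOf (permOf li h) = p := by
  rw [← orderOf_inv]
  exact Mathieu.orderOf_of_prime_pack hp (rep_inv_coe h) hk

theorem card_cent_le {li : ℕ} (h : Mathieu.mem24 li = true) {L : List ℕ}
    (hlev : Mathieu.levelsOK 24 [] Mathieu.levels24 = true)
    (hs : Mathieu.searchOK 24 li (Mathieu.centLeaf 24 li L) Mathieu.levels24 (Mathieu.packId 24) [] [] = true) :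
    Nat.card (Subgroup.centralizer ({permOf li h} : Set M24)) ≤ L.length := by
  have e : Subgroup.centralizer ({permOf li h} : Set M24) =
      Subgroup.centralizer ({(permOf li h)⁻¹} : Set M24) := by
    ext g
    rw [Subgroup.mem_centralizer_singleton_iff, Subgroup.mem_centralizer_singleton_iff]
    exact ⟨fun hg => Commute.inv_right hg, fun hg => Commute.inv_right_iff.1 hg⟩
  rw [e]
  exact Mathieu.card_centralizer_le (by norm_num) hlev Mathieu.M24_reps Mathieu.M24_upper_bot.1
    Mathieu.M24_upper_bot.2 _ (rep_inv_coe h) hs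

/-- Leaf test for a centraliser listed in canonical packed form. -/
def centLeafEq (z : ℕ) (L : List ℕ) (l : ℕ) : Bool :=
  Mathieu.force l fun l => !Mathieu.commP 24 l z || L.contains l

theorem centLeaf_of_eq {z : ℕ} {L : List ℕ} {l : ℕ} (h : centLeafEq z L l = true) :
    Mathieu.centLeaf 24 z L l = true := by
  simp only [centLeafEq, Mathieu.force_eq, Bool.or_eq_true, List.contains_iff_mem] at h
  simp only [Mathieu.centLeaf, Bool.or_eq_true]
  refine h.imp id fun hm => List.any_eq_true.2 ⟨l, hm, ?_⟩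
  simp [Mathieu.sameP]

theorem searchOK_mono {n z : ℕ} {P P' : ℕ → Bool} (hP : ∀ l, P l = true → P' l = true) :
    ∀ (levels : List Mathieu.CertLevel) (g : ℕ) (done : List (ℕ × ℕ)) (Ek : List ℕ),
      Mathieu.searchOK n z P levels g done Ek = true → Mathieu.searchOK n z P' levels g done Ek = true
  | [], g, _, _, h => hP g h
  | p :: rest, g, done, Ek, h => by
    simp only [Mathieu.searchOK, List.all_eq_true, Bool.or_eq_true] at h ⊢
    exact fun t ht => (h t ht).imp id (searchOK_mono hP rest _ _ _)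

/-- A word conjugates the permutation with packed inverse `li` to the one with packed inverse `lf`. -/
def intertwB (li lf : ℕ) (w : List Move) : Bool :=
  (List.range 24).all fun k =>
    wordL w (monoL li 0 (tabN fun j => if j = k then 8 else 0)) ==
      monoL lf 0 (wordL w (tabN fun j => if j = k then 8 else 0))

theorem intertwine_of_B {li lf : ℕ} (h : Mathieu.mem24 li = true) (h' : Mathieu.mem24 lf = true)
    {w : List Move} (hw : w.all moveOK = true) (hc : intertwB li lf w = true) :
    wordElt w * permHom (permOf li h) = permHom (permOf lf h') * wordElt w := by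
  simp only [intertwB, List.all_eq_true, List.mem_range, beq_iff_eq] at hc
  refine co0_ext _ _ fun i => Subtype.ext ?_
  rw [mul_smul, mul_smul, toVec_wordL hw _ _ (toVec_monoL_zero h _ _ (toVec_eight i)),
    toVec_monoL_zero h' _ _ (toVec_wordL hw _ _ (toVec_eight i))]
  exact congrArg toVec (hc _ (Mathieu.ptEnc i).isLt)

theorem permOf_inv {li lf : ℕ} (h : Mathieu.mem24 li = true) (h' : Mathieu.mem24 lf = true)
    (hid : Mathieu.isId 24 (Mathieu.packMul 24 li lf) = true) : permOf lf h' = (permOf li h)⁻¹ := by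
  have h1 : ((permOf li h)⁻¹ * (permOf lf h')⁻¹ : M24) = 1 := Subtype.ext
    ((Mathieu.rep_packMul (rep_inv_coe h) (rep_inv_coe h')).eq_one hid)
  rw [mul_inv_eq_one] at h1
  exact h1.symm

namespace Data.OK

variable {D : Data} (hD : D.OK)

include hD

/-- An element of the centraliser does not move the standard class onto the image of the standard
class under an element inverting `g`, if no element of M24 inverts `σ`. -/
theorem coord_ne_of_inverter (hno : ∀ τ : M24, τ * hD.σ ≠ hD.σ⁻¹ * τ) {k : Co0}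
    (hk : k * hD.g = hD.g⁻¹ * k) {m : D.F} (hkm : clsV (k • eight none) = clsV (hD.comb m))
    (h : hD.C0) : hD.coord ((h : Co0) • eight none) ≠ m := by
  intro e
  have hcls : clsV ((k⁻¹ * (h : Co0)) • eight none) = clsV (eight none) := by
    rw [← clsV_smul_iff (g := k), mul_smul, smul_inv_smul, hkm, ← e,
      ← hD.coord_spec (hD.fixed_smul h hD.fixed_eight)]
  obtain ⟨τ, c, hc, hτ⟩ := mono_decomp (mem_monGrp.2 (fixesStd_iff.2 hcls))
  have h1 : k⁻¹ * hD.g = hD.g⁻¹ * k⁻¹ := by
    have h2 : k * hD.g⁻¹ = hD.g * k := by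
      calc k * hD.g⁻¹ = hD.g * (hD.g⁻¹ * k) * hD.g⁻¹ := by group
        _ = _ := by rw [← hk]; group
    calc k⁻¹ * hD.g = k⁻¹ * (hD.g * k) * k⁻¹ := by group
      _ = k⁻¹ * (k * hD.g⁻¹) * k⁻¹ := by rw [h2]
      _ = _ := by group
  have h3 : k⁻¹ * (h : Co0) * hD.g = hD.g⁻¹ * (k⁻¹ * (h : Co0)) := by
    rw [mul_assoc, hD.mem_C0.1 h.2, ← mul_assoc, h1, mul_assoc]
  rw [hτ, mul_assoc, show hD.g = permHom hD.σ from rfl, ← map_mul, ← map_inv, ← mul_assoc,
    mul_inv_eq_iff_eq_mul.1 (perm_conj_sign hD.σ⁻¹ hc), mul_assoc, ← map_mul] at h3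
  exact hno τ (mono_decomp_unique h3).2

end Data.OK

end Cfsg.Agent.Leech.Fixed

namespace Cfsg.Agent.Leech.Fixed

open Cfsg Cfsg.Agent.Leech

/-- The centraliser bound read off at a conjugate. -/
theorem card_cent_conj_le {li z γ : ℕ} (h : Mathieu.mem24 li = true) {L : List ℕ}
    (hzm : (Mathieu.permOK 24 z && Mathieu.mem24 z) = true)
    (hγm : (Mathieu.permOK 24 γ && Mathieu.mem24 γ) = true)
    (hconj : Mathieu.conjP 24 γ li z = true)
    (hlev : Mathieu.levelsOK 24 [] Mathieu.levels24 = true)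
    (hs : Mathieu.searchOK 24 z (centLeafEq z L) Mathieu.levels24 (Mathieu.packId 24) [] [] = true) :
    Nat.card (Subgroup.centralizer ({permOf li h} : Set M24)) ≤ L.length := by
  obtain ⟨w, hw⟩ := Mathieu.exists_elt (H := M24) Mathieu.mem24_sound hzm
  obtain ⟨c, hc⟩ := Mathieu.exists_elt (H := M24) Mathieu.mem24_sound hγm
  have e : c * (permOf li h)⁻¹ * c⁻¹ = w :=
    Subtype.ext (Mathieu.conj_eq_of_conjP hc (rep_inv_coe h) hw hconj)
  let f : Subgroup.centralizer ({permOf li h} : Set M24) → Subgroup.centralizer ({w} : Set M24) :=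
    fun g => ⟨c * g * c⁻¹, Subgroup.mem_centralizer_singleton_iff.2 (by
      have hg : Commute (g : M24) (permOf li h)⁻¹ :=
        Commute.inv_right (Subgroup.mem_centralizer_singleton_iff.1 g.2)
      rw [← e, show c * g * c⁻¹ * (c * (permOf li h)⁻¹ * c⁻¹) = c * (g * (permOf li h)⁻¹) * c⁻¹ by group,
        hg.eq]
      group)⟩
  refine (Nat.card_le_card_of_injective f fun a b hab => ?_).trans
    (Mathieu.card_centralizer_le (by norm_num) hlev Mathieu.M24_reps Mathieu.M24_upper_bot.1
      Mathieu.M24_upper_bot.2 w hw (searchOK_mono (fun _ => centLeaf_of_eq) _ _ _ _ hs))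
  exact Subtype.ext (mul_left_cancel (mul_right_cancel (congrArg Subtype.val hab)))

end Cfsg.Agent.Leech.Fixed
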