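/-
The groups acting on families of fixed classes: SL(3,2) on seven points, A9, and A5 wr 2 on ten points.
-/
import Cfsg.Prelude.Def_MonsterType
import Cfsg.Agent.Lib.BoundedPres.AltGen
import Cfsg.Agent.Lib.DihedralCent.Tools
import Cfsg.Agent.Lib.GL.Basic

set_option autoImplicit false

namespace Cfsg.Agent.Leech.Fixed

open Cfsg Equiv

/-- The bits of a number as a vector. -/
def bitsF (d x : ℕ) : Fin d → ZMod 2 := fun k => if x.testBit k.val then 1 else 0

/-- The number with given bits. -/
def numF {d : ℕ} (m : Fin d → ZMod 2) : ℕ := ∑ k, if m k = 1 then 2 ^ k.val else 0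

/-- A simple group that is not a 2-group has trivial largest normal 2-subgroup. -/
theorem normal_two_bot_of_simple {K : Type*} [Group K] [Finite K] [IsSimpleGroup K] (h : ¬ IsPGroup 2 K)
    (N : Subgroup K) (hN : N.Normal) (h2 : IsPGroup 2 N) : N = ⊥ :=
  hN.eq_bot_or_eq_top.resolve_right fun e => h (by
    subst e
    exact h2.of_equiv Subgroup.topEquiv)

theorem not_two_group {K : Type*} [Group K] [Finite K] {q : ℕ} (hq : q.Prime) (h2 : q ≠ 2)
    (hdvd : q ∣ Nat.card K) : ¬ IsPGroup 2 K := fun h => by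
  have : Fact (Nat.Prime 2) := ⟨Nat.prime_two⟩
  obtain ⟨k, hk⟩ := IsPGroup.iff_card.1 h
  rw [hk] at hdvd
  exact h2 ((Nat.prime_dvd_prime_iff_eq hq Nat.prime_two).1 (hq.dvd_of_dvd_pow hdvd))

/-! ### Alternating groups -/

theorem alternating_le_of_cyc {m : ℕ} (H : Subgroup (Perm (Fin (2 + m))))
    (h : ∀ k : Fin m, swap (Fin.castAdd m (0 : Fin 2)) (Fin.castAdd m 1) *
      swap (Fin.castAdd m (1 : Fin 2)) (Fin.natAdd 2 k) ∈ H) :
    alternatingGroup (Fin (2 + m)) ≤ H := by
  intro σ hσ
  have hs : finSumFinEquiv.symm.permCongr σ ∈ alternatingGroup (Fin 2 ⊕ Fin m) := by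
    rw [Perm.mem_alternatingGroup, Perm.sign_permCongr]
    exact Perm.mem_alternatingGroup.1 hσ
  rw [← BoundedPres.closure_cyc] at hs
  have key : ∀ π ∈ Subgroup.closure (Set.range (BoundedPres.cyc (β := Fin m))),
      (finSumFinEquiv (m := 2) (n := m)).permCongr π ∈ H := by
    intro π hπ
    induction hπ using Subgroup.closure_induction with
    | mem y hy =>
      obtain ⟨v, rfl⟩ := hy
      have hsw : ∀ a b : Fin 2 ⊕ Fin m, (finSumFinEquiv (m := 2) (n := m)).permCongr (swap a b) =
          swap (finSumFinEquiv a) (finSumFinEquiv b) := fun a b => by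
        ext x; simp [Equiv.permCongr_apply, Equiv.swap_apply_def, Equiv.eq_symm_apply, Equiv.symm_apply_eq]
        split_ifs <;> simp
      show (finSumFinEquiv (m := 2) (n := m)).permCongrHom (BoundedPres.cyc v) ∈ H
      rw [BoundedPres.cyc, BoundedPres.swapAB, map_mul]
      show (finSumFinEquiv (m := 2) (n := m)).permCongr _ * (finSumFinEquiv (m := 2) (n := m)).permCongr _ ∈ H
      rw [hsw, hsw]
      exact h v
    | one =>
      show (finSumFinEquiv (m := 2) (n := m)).permCongrHom 1 ∈ H
      rw [map_one]; exact H.one_mem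
    | mul a b _ _ ha hb =>
      show (finSumFinEquiv (m := 2) (n := m)).permCongrHom (a * b) ∈ H
      rw [map_mul]; exact H.mul_mem ha hb
    | inv a _ ha =>
      show (finSumFinEquiv (m := 2) (n := m)).permCongrHom a⁻¹ ∈ H
      rw [map_inv]; exact H.inv_mem ha
  have := key _ hs
  convert this using 1
  ext x; simp [Equiv.permCongr_apply]

/-! ### SL(3,2) on seven points -/

/-- The action on the seven nonzero vectors, numbered by their bits. -/
def sevenAct (M : Matrix (Fin 3) (Fin 3) (ZMod 2)) (i : Fin 7) : Fin 7 :=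
  Fin.ofNat 7 (numF (M.mulVec (bitsF 3 (i.val + 1))) - 1)

theorem sevenAct_spec : ∀ v : Fin 3 → ZMod 2, v ≠ 0 →
    bitsF 3 ((Fin.ofNat 7 (numF v - 1)).val + 1) = v := by decide +kernel

theorem bitsF_ne_zero : ∀ i : Fin 7, bitsF 3 (i.val + 1) ≠ 0 := by decide +kernel

theorem bitsF_numF : ∀ i : Fin 7, Fin.ofNat 7 (numF (bitsF 3 (i.val + 1)) - 1) = i := by decide +kernel

theorem sevenAct_bits (M : Matrix.SpecialLinearGroup (Fin 3) (ZMod 2)) (i : Fin 7) :
    bitsF 3 ((sevenAct M.1 i).val + 1) = M.1.mulVec (bitsF 3 (i.val + 1)) := by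
  refine sevenAct_spec _ fun h => bitsF_ne_zero i ?_
  have := congrArg ((M⁻¹).1.mulVec) h
  rw [Matrix.mulVec_mulVec, Matrix.mulVec_zero, ← Matrix.SpecialLinearGroup.coe_mul, inv_mul_cancel,
    Matrix.SpecialLinearGroup.coe_one, Matrix.one_mulVec] at this
  exact this

theorem sevenAct_mul (M N : Matrix.SpecialLinearGroup (Fin 3) (ZMod 2)) (i : Fin 7) :
    sevenAct (M * N).1 i = sevenAct M.1 (sevenAct N.1 i) := by
  conv_rhs => rw [sevenAct, sevenAct_bits, Matrix.mulVec_mulVec]
  rfl

theorem sevenAct_one (i : Fin 7) : sevenAct (1 : Matrix.SpecialLinearGroup (Fin 3) (ZMod 2)).1 i = i := by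
  rw [sevenAct, Matrix.SpecialLinearGroup.coe_one, Matrix.one_mulVec]
  exact bitsF_numF i

/-- SL(3,2) acting on seven points. -/
def sevenHom : Matrix.SpecialLinearGroup (Fin 3) (ZMod 2) →* Perm (Fin 7) :=
  MonoidHom.mk' (fun M => ⟨sevenAct M.1, sevenAct (M⁻¹).1,
    fun i => by rw [← sevenAct_mul, inv_mul_cancel, sevenAct_one],
    fun i => by rw [← sevenAct_mul, mul_inv_cancel, sevenAct_one]⟩)
    fun M N => Equiv.ext (sevenAct_mul M N)

theorem sevenHom_apply (M : Matrix.SpecialLinearGroup (Fin 3) (ZMod 2)) (i : Fin 7) :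
    sevenHom M i = sevenAct M.1 i := by
  simp only [sevenHom, MonoidHom.mk'_apply, Equiv.coe_fn_mk]

theorem sevenHom_injective : Function.Injective sevenHom := by
  intro M N h
  refine Subtype.ext (Matrix.ext fun a b => ?_)
  have hb : bitsF 3 (2 ^ b.val - 1 + 1) = Pi.single b 1 := by revert b; decide +kernel
  have e : ∀ i : Fin 7, M.1.mulVec (bitsF 3 (i.val + 1)) = N.1.mulVec (bitsF 3 (i.val + 1)) := fun i => by
    rw [← sevenAct_bits, ← sevenAct_bits, ← sevenHom_apply, ← sevenHom_apply, h]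
  have hlt : 2 ^ b.val - 1 < 7 := by
    have : b.val < 3 := b.isLt
    interval_cases b.val <;> norm_num
  have := congrFun (e ⟨2 ^ b.val - 1, hlt⟩) a
  simp only [hb, Matrix.mulVec_single, MulOpposite.op_one, one_smul, Matrix.col_apply] at this
  exact this

theorem card_sevenRange : Nat.card sevenHom.range = 168 := by
  rw [← Nat.card_congr (MonoidHom.ofInjective sevenHom_injective).toEquiv]
  exact DihedralCentTools.sl32.2

theorem sevenRange_two (N : Subgroup sevenHom.range) (hN : N.Normal) (h2 : IsPGroup 2 N) : N = ⊥ := by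
  have := DihedralCentTools.sl32.1
  have : IsSimpleGroup sevenHom.range :=
    (MonoidHom.ofInjective sevenHom_injective).symm.isSimpleGroup
  exact normal_two_bot_of_simple (not_two_group (q := 7) (by norm_num) (by norm_num)
    (by rw [card_sevenRange]; norm_num)) N hN h2

theorem sevenRange_le {H : Subgroup (Perm (Fin 7))}
    (h : ∀ i j : Fin 3, ∀ hij : i ≠ j, sevenHom (Matrix.SpecialLinearGroup.transvection hij 1) ∈ H) :
    sevenHom.range ≤ H := by
  rintro _ ⟨M, rfl⟩
  have : H.comap sevenHom = ⊤ := GL.SL_eq_top_of_transvection_mem fun i j hij c => by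
    rcases (by decide : ∀ c : ZMod 2, c = 0 ∨ c = 1) c with rfl | rfl
    · have e : Matrix.SpecialLinearGroup.transvection hij (0 : ZMod 2) = 1 := by
        refine Subtype.ext ?_
        simp [Matrix.SpecialLinearGroup.transvection, Matrix.transvection]
      rw [e]; exact one_mem _
    · exact h i j hij
  show M ∈ H.comap sevenHom
  rw [this]; trivial

/-! ### A9 -/

theorem card_alt_nine : Nat.card (alternatingGroup (Fin 9)) = 181440 := by
  rw [nat_card_alternatingGroup, Nat.card_fin]
  decide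

theorem altNine_two (N : Subgroup (alternatingGroup (Fin 9))) (hN : N.Normal) (h2 : IsPGroup 2 N) :
    N = ⊥ := by
  have : IsSimpleGroup (alternatingGroup (Fin 9)) := alternatingGroup.isSimpleGroup (by simp)
  exact normal_two_bot_of_simple (not_two_group (q := 3) (by norm_num) (by norm_num)
    (by rw [card_alt_nine]; norm_num)) N hN h2

/-! ### A5 wr 2 on ten points -/

/-- The base group on ten points. -/
def baseTen : alternatingGroup (Fin 5) × alternatingGroup (Fin 5) →* Perm (Fin 10) :=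
  ((finSumFinEquiv (m := 5) (n := 5)).permCongrHom.toMonoidHom.comp
    (Perm.sumCongrHom (Fin 5) (Fin 5))).comp
    ((alternatingGroup (Fin 5)).subtype.prodMap (alternatingGroup (Fin 5)).subtype)

/-- The swap of the two blocks. -/
def swapTen : Perm (Fin 10) :=
  (finSumFinEquiv (m := 5) (n := 5)).permCongrHom (Equiv.sumComm (Fin 5) (Fin 5))

/-- A5 wr 2 on ten points. -/
def wreathTen : Subgroup (Perm (Fin 10)) :=
  alternatingFiveWreathTwo.map (finSumFinEquiv (m := 5) (n := 5)).permCongrHom.toMonoidHom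

theorem baseTen_injective : Function.Injective baseTen := by
  intro a b h
  have h' := Perm.sumCongrHom_injective ((finSumFinEquiv (m := 5) (n := 5)).permCongrHom.injective h)
  exact Prod.ext (Subtype.ext (congrArg Prod.fst h')) (Subtype.ext (congrArg Prod.snd h'))

theorem baseTen_range_le : baseTen.range ≤ wreathTen := by
  rintro _ ⟨⟨σ, τ⟩, rfl⟩
  exact ⟨_, Subgroup.subset_closure (Or.inl ⟨σ, τ, rfl⟩), rfl⟩

theorem swapTen_mem : swapTen ∈ wreathTen :=
  ⟨_, Subgroup.subset_closure (Or.inr rfl), rfl⟩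

theorem card_wreathTen : 7200 ≤ Nat.card wreathTen := by
  classical
  have hc : Nat.card baseTen.range = 3600 := by
    rw [← Nat.card_congr (MonoidHom.ofInjective baseTen_injective).toEquiv, Nat.card_prod,
      nat_card_alternatingGroup, Nat.card_fin]
    decide
  obtain ⟨k, hk⟩ := Subgroup.card_dvd_of_le baseTen_range_le
  have hne : baseTen.range ≠ wreathTen := by
    intro e
    obtain ⟨⟨σ, τ⟩, hst⟩ := e.symm ▸ swapTen_mem
    have h0 := congrArg (fun π : Perm (Fin 10) => (π 0).val) hst
    have h1 : (baseTen (σ, τ) 0).val < 5 := by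
      show (finSumFinEquiv (Sum.map (σ : Perm (Fin 5)) (τ : Perm (Fin 5))
        (finSumFinEquiv.symm (Fin.castAdd 5 (0 : Fin 5))))).val < 5
      rw [finSumFinEquiv_symm_apply_castAdd]
      exact ((σ : Perm (Fin 5)) 0).isLt
    have h2 : (swapTen 0).val = 5 := by decide +kernel

    omega
  rw [hc] at hk
  rcases k with _ | _ | k
  · simp at hk
  · exact absurd (Subgroup.eq_of_le_of_card_ge baseTen_range_le (by rw [hc, hk])) hne
  · rw [hk]; nlinarith

theorem wreathTen_le {H : Subgroup (Perm (Fin 10))}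
    (hl : ∀ k : Fin 3, baseTen (⟨swap 0 1 * swap 1 (Fin.natAdd 2 k), by
      rw [Perm.mem_alternatingGroup]; revert k; decide⟩, 1) ∈ H)
    (hr : ∀ k : Fin 3, baseTen (1, ⟨swap 0 1 * swap 1 (Fin.natAdd 2 k), by
      rw [Perm.mem_alternatingGroup]; revert k; decide⟩) ∈ H)
    (hs : swapTen ∈ H) : wreathTen ≤ H := by
  have hbase : ∀ x, baseTen x ∈ H := by
    intro x
    have e1 : ∀ σ : alternatingGroup (Fin 5), baseTen (σ, 1) ∈ H := fun σ => by
      have := alternating_le_of_cyc (m := 3) ((H.comap (baseTen.comp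
        (MonoidHom.inl _ _))).map (alternatingGroup (Fin 5)).subtype)
        (fun k => ⟨_, hl k, rfl⟩) σ.2
      obtain ⟨σ', h', e⟩ := this
      exact Subtype.ext e ▸ h'
    have e2 : ∀ σ : alternatingGroup (Fin 5), baseTen (1, σ) ∈ H := fun σ => by
      have := alternating_le_of_cyc (m := 3) ((H.comap (baseTen.comp
        (MonoidHom.inr _ _))).map (alternatingGroup (Fin 5)).subtype)
        (fun k => ⟨_, hr k, rfl⟩) σ.2
      obtain ⟨σ', h', e⟩ := this
      exact Subtype.ext e ▸ h'
    have := H.mul_mem (e1 x.1) (e2 x.2)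
    rwa [← map_mul, Prod.mk_mul_mk, mul_one, one_mul] at this
  rintro _ ⟨π, hπ, rfl⟩
  induction hπ using Subgroup.closure_induction with
  | mem y hy =>
    rcases hy with ⟨σ, τ, rfl⟩ | hy
    · exact hbase (σ, τ)
    · rw [Set.mem_singleton_iff.1 hy]; exact hs
  | one => rw [map_one]; exact H.one_mem
  | mul a b _ _ ha hb => rw [map_mul]; exact H.mul_mem ha hb
  | inv a _ ha => rw [map_inv]; exact H.inv_mem ha

/-- A three-cycle on one of the blocks. -/
def blockCyc (l : Bool) (i : Fin 5) : alternatingGroup (Fin 5) × alternatingGroup (Fin 5) :=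
  if l then (⟨swap i (i + 1) * swap (i + 1) (i + 2), by
    rw [Perm.mem_alternatingGroup]; revert i; decide⟩, 1)
  else (1, ⟨swap i (i + 1) * swap (i + 1) (i + 2), by
    rw [Perm.mem_alternatingGroup]; revert i; decide⟩)

theorem separate_ten : ∀ a b : Fin 10, a ≠ b → ∃ l : Bool, ∃ i : Fin 5,
    baseTen (blockCyc l i) a ≠ a ∧ baseTen (blockCyc l i) b = b := by
  decide +kernel

theorem baseTen_normal {w : Perm (Fin 10)} (hw : w ∈ wreathTen) :
    ∀ x, w * baseTen x * w⁻¹ ∈ baseTen.range := by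
  obtain ⟨π, hπ, rfl⟩ := hw
  induction hπ using Subgroup.closure_induction with
  | mem y hy =>
    intro x
    rcases hy with ⟨σ, τ, rfl⟩ | hy
    · exact ⟨(σ, τ) * x * (σ, τ)⁻¹, by rw [map_mul, map_mul, map_inv]; rfl⟩
    · rw [Set.mem_singleton_iff.1 hy]
      refine ⟨(x.2, x.1), ?_⟩
      rw [eq_mul_inv_iff_mul_eq]
      refine Equiv.ext fun i => ?_
      obtain ⟨j, rfl⟩ := (finSumFinEquiv (m := 5) (n := 5)).surjective i
      rcases j with j | j <;> simp [baseTen, Equiv.permCongr_apply]
  | one => intro x; rw [map_one, one_mul, inv_one, mul_one]; exact ⟨x, rfl⟩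
  | mul a b _ _ ha hb =>
    intro x
    obtain ⟨y, hy⟩ := hb x
    obtain ⟨u, hu⟩ := ha y
    refine ⟨u, ?_⟩
    rw [hu, hy, map_mul]; group
  | inv a _ ha =>
    intro x
    have hmap : baseTen.range.map (MulAut.conj
        ((finSumFinEquiv (m := 5) (n := 5)).permCongrHom.toMonoidHom a)).toMonoidHom = baseTen.range := by
      refine Subgroup.eq_of_le_of_card_ge ?_ ?_
      · rintro _ ⟨_, ⟨u, rfl⟩, rfl⟩
        exact ha u
      · exact (Subgroup.card_map_of_injective (MulAut.conj _).injective).ge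
    have hx : baseTen x ∈ baseTen.range := ⟨x, rfl⟩
    rw [← hmap] at hx
    obtain ⟨_, hy, e⟩ := hx
    rw [map_inv, inv_inv, ← e]
    simpa [mul_assoc] using hy

theorem wreathTen_two (N : Subgroup wreathTen) (hN : N.Normal) (h2 : IsPGroup 2 N) : N = ⊥ := by
  let β : alternatingGroup (Fin 5) × alternatingGroup (Fin 5) →* wreathTen :=
    baseTen.codRestrict wreathTen fun x => baseTen_range_le ⟨x, rfl⟩
  have hβi : Function.Injective β := fun a b h => baseTen_injective (congrArg Subtype.val h)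
  have hA : IsSimpleGroup (alternatingGroup (Fin 5)) := alternatingGroup.isSimpleGroup (by simp)
  have hnt : ¬ IsPGroup 2 (alternatingGroup (Fin 5)) := not_two_group (q := 3) (by norm_num)
    (by norm_num) (by rw [nat_card_alternatingGroup, Nat.card_fin]; decide)
  have hzero : N.comap β = ⊥ := by
    have hn : (N.comap β).Normal := hN.comap β
    have h2' : IsPGroup 2 (N.comap β) := h2.comap_of_injective β hβi
    rw [eq_bot_iff]
    intro x hx
    have f1 := normal_two_bot_of_simple hnt _
      (hn.map (MonoidHom.fst _ _) Prod.fst_surjective) (h2'.map _)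
    have f2 := normal_two_bot_of_simple hnt _
      (hn.map (MonoidHom.snd _ _) Prod.snd_surjective) (h2'.map _)
    have h1 : x.1 ∈ (⊥ : Subgroup _) := f1 ▸ ⟨x, hx, rfl⟩
    have h3 : x.2 ∈ (⊥ : Subgroup _) := f2 ▸ ⟨x, hx, rfl⟩
    exact Subgroup.mem_bot.2 (Prod.ext (Subgroup.mem_bot.1 h1) (Subgroup.mem_bot.1 h3))
  rw [eq_bot_iff]
  intro w hw
  rw [Subgroup.mem_bot]
  have hcomm : ∀ x, (w : Perm (Fin 10)) * baseTen x = baseTen x * w := by
    intro x
    obtain ⟨y, hy⟩ := baseTen_normal w.2 x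
    have hmem : β (y * x⁻¹) ∈ N := by
      have e : β (y * x⁻¹) = w * (β x * w⁻¹ * (β x)⁻¹) := by
        refine Subtype.ext ?_
        show baseTen (y * x⁻¹) = (w : Perm (Fin 10)) * (baseTen x * (w : Perm (Fin 10))⁻¹ * (baseTen x)⁻¹)
        rw [map_mul, map_inv, hy]; group
      rw [e]
      exact N.mul_mem hw (hN.conj_mem _ (N.inv_mem hw) _)
    have : y * x⁻¹ ∈ N.comap β := hmem
    rw [hzero, Subgroup.mem_bot, mul_inv_eq_one] at this
    rw [this] at hy
    exact mul_inv_eq_iff_eq_mul.1 hy.symm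
  refine Subtype.ext (Equiv.ext fun a => ?_)
  show (w : Perm (Fin 10)) a = a
  by_contra hne
  obtain ⟨l, i, h1, h2⟩ := separate_ten a ((w : Perm (Fin 10)) a) (Ne.symm hne)
  have h := congrArg (fun π : Perm (Fin 10) => π a) (hcomm (blockCyc l i))
  simp only [Perm.mul_apply, h2] at h
  exact h1 ((w : Perm (Fin 10)).injective h)

/-- The isomorphism with the group of the definition. -/
noncomputable def wreathTenEquiv : wreathTen ≃* alternatingFiveWreathTwo :=
  ((finSumFinEquiv (m := 5) (n := 5)).permCongrHom.subgroupMap alternatingFiveWreathTwo).symm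

end Cfsg.Agent.Leech.Fixed
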