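/-
The element of order 7 of M24 with 3 fixed points: the fixed classes modulo `2Λ`, orbit of seven classes, quotient SL(3,2).
-/
import Cfsg.Agent.Lib.Leech.Fixed.Cent
import Cfsg.Agent.Lib.Leech.Fixed.Targets
import Cfsg.Agent.Lib.Mathieu.SevenNorm

set_option autoImplicit false
set_option maxRecDepth 100000
set_option maxHeartbeats 4000000

namespace Cfsg.Agent.Leech.Fixed.Seven

open Cfsg Cfsg.Agent.Leech Equiv

/-- The basis of the fixed classes. -/
def basisK : List (List ℤ) := [
  [28, 0, 0, 4, 4, 4, 0, 4, 0, 0, 0, 0, 0, 0, 0, 0, 4, 0, 0, 4, 0, 0, 0, 4],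
  [0, 28, 0, 4, 4, 4, 0, 4, 0, 0, 0, 0, 0, 0, 0, 0, 4, 0, 0, 4, 0, 0, 0, 4],
  [0, 0, 28, 4, 4, 4, 0, 4, 0, 0, 0, 0, 0, 0, 0, 0, 4, 0, 0, 4, 0, 0, 0, 4],
  [7, 7, 7, 3, 3, 3, 7, 3, 7, 7, 7, 7, 7, 7, 7, 7, 3, 7, 7, 3, 7, 7, 7, 3],
  [14, 0, 0, 4, 4, 4, 6, 4, 6, 4, 4, 4, 6, 6, 4, 4, 4, 6, 6, 4, 6, 4, 4, 4],
  [0, 14, 0, 4, 4, 4, 4, 4, 4, 6, 6, 6, 4, 4, 6, 6, 4, 4, 4, 4, 4, 6, 6, 4]]

/-- The data. -/
def dat : Data where
  p := 7
  d := 6
  li := 0x30f0e0605140c13090a080d15160b121711071004020100
  basis k := basisK.getD k.val []

/-- Coordinates of the images of the lattice generators. -/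
def spanM : List ℕ :=
  [1, 2, 4, 4, 4, 4, 1, 4, 1, 2, 2, 2, 1, 1, 2, 2, 4, 1, 1, 4, 1, 2, 2, 4, 8, 16, 32, 49, 6, 0, 6, 5, 6, 6, 5, 5,
  5]

/-- Short representatives of the fixed classes, one byte `x + 32` for each coordinate `x`. -/
def shortK : List ℕ := [
  0x202020202020202020202020202020202020202020202020,
  0x202020202020202020202020202020202020202020242024,
  0x202020202020202020202020202020202020202020242420,
  0x202020202020202020202020202020202020202020201c24,
  0x202020202020202020202020202020202020202020202028,
  0x2020202020202020202020202020202020202020201c2024,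
  0x2020202020202020202020202020202020202020201c2420,
  0x202020202020202020202020202020202020202020202424,
  0x2121212121212121212121212121212121212121211d2121,
  0x212121212121212121212121212121212121212121212125,
  0x212121212121212121212121212121212121212121212521,
  0x212121212121212121212121212121212121212121251d1d,
  0x212121212121212121212121212121212121212121252121,
  0x21212121212121212121212121212121212121212121211d,
  0x212121212121212121212121212121212121212121211d21,
  0x2121212121212121212121212121212121212121211d1d1d,
  0x2020242220221e202020221e2020201e201e20201c202022,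
  0x202020222022222020202222202020222022202020201c1e,
  0x222222202220202222222020222222202220222222222220,
  0x20202022202222202020222220202022202220202024201e,
  0x2020242220221e202020221e2020201e201e202024202022,
  0x20202022202222202020222220202022202220202020241e,
  0x202020222022222020202222202020222022202020202022,
  0x2020202220222220202022222020202220222020201c201e,
  0x1f1f1f211f21211f1f1f21211f1f1f211f211f1f1f1f2321,
  0x1f1f231d1f1d211f1f1f1d211f1f1f211f211f1f231f1f21,
  0x1f1f1f211f21211f1f1f21211f1f1f211f211f1f1f1b1f21,
  0x2121211f211f1f2121211f1f2121211f211f21212121211b,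
  0x2121211f211f1f2121211f1f2121211f211f21212121251f,
  0x2121211f211f1f2121211f1f2121211f211f2121211d1d23,
  0x1f1f1f211f21211f1f1f21211f1f1f211f211f1f1f231f21,
  0x1f1f1f211f21211f1f1f21211f1f1f211f211f1f1f1f1f1d,
  0x2422221c202020201e222020221e1e202020202020201e20,
  0x222020222222222220202222202020222222222222222022,
  0x202222202020202022222020222222202020202020201e1c,
  0x202222202020202022222020222222202020202020241e20,
  0x24222224202020201e222020221e1e202020202020201e20,
  0x202222202020202022222020222222202020202020202220,
  0x202222202020202022222020222222202020202020201e24,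
  0x2022222020202020222220202222222020202020201c1e20,
  0x211f1f21212121211f1f21211f1f1f212121212121211f1d,
  0x211f1f21212121211f1f21211f1f1f212121212121251f21,
  0x211f231d211d21211f1f1d211f1f1f21212121211d211f21,
  0x211f1f21212121211f1f21211f1f1f212121212121211b21,
  0x211f1f21212121211f1f21211f1f1f212121212121211f25,
  0x211f1f21212121211f1f21211f1f1f2121212121211d1f21,
  0x211f1f21212121211f1f21211f1f1f2121212121211d231d,
  0x211f1f21212121211f1f21211f1f1f212121212121212321,
  0x222420201e20202220202420202020201e201e221e222020,
  0x2220202022202022202020202020202022202222221e2420,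
  0x2220202022202022202020202020202022202222221e2024,
  0x202222222022222022222222222222222022202020202222,
  0x222420201e20202220201c20202020201e201e221e222020,
  0x2220202022202022202020202020202022202222221e1c20,
  0x2220202022202022202020202020202022202222221e201c,
  0x222020202220202220202020202020202220222222222020,
  0x1f2121211f21211f21212121212121211f211f1f1f23251d,
  0x1f2121211f21211f21212121212121211f211f1f1f1f1d21,
  0x1f2121211f21211f21212121212121211f211f1f1f1f211d,
  0x1f2121211f21211f21212121212121211f211f1f1f232121,
  0x211f1f1f211f1f211f1f1f1f1f1f1f1f211f2121211d2323,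
  0x211f1f1f211f1f211f1f1f1f1f1f1f1f211f212121211b1f,
  0x211f1f1f211f1f211f1f1f1f1f1f1f1f211f212121211f1b,
  0x1f2121211f21211f21212121212121211f211f1f1f1b2121]

/-- The classes of norm 64. -/
def normK : List ℕ :=
  [4, 11, 16, 18, 20, 25, 32, 33, 36, 42, 48, 51, 52, 56]

/-- The family permuted by the centraliser. -/
def famK : List (List ℕ) := [
  [4],
  [16],
  [20],
  [32],
  [36],
  [48],
  [52]]

/-- The fixed words of the code. -/
def codeK : List ℕ :=
  [0, 1454401, 6344194, 7798595, 8978620, 10433021, 15322814, 16777215]

/-- A word centralising `g`. -/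
def word0 : List Move :=
  [some (0x80416120b0f130611050c150e100301090a000714170d02, 11580622), none, some
  (0x60512020401070b0a0c1403110d0f16000809150e131017, 39257), none, some
  (0x17071415000d12100c0e050f080a06160b01110209130304, 8490656)]

/-- Its permutation of the family. -/
def perm0 : Perm (Fin 7) where
  toFun := ![4, 5, 2, 1, 6, 3, 0]
  invFun := ![6, 3, 2, 5, 0, 1, 4]
  left_inv := by unfold Function.LeftInverse; decide
  right_inv := by unfold Function.RightInverse Function.LeftInverse; decide

/-- A word centralising `g`. -/
def word1 : List Move :=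
  [some (0x11090a04120313080b1607050e0f15170610140d0c000102, 0)]

/-- Its permutation of the family. -/
def perm1 : Perm (Fin 7) where
  toFun := ![0, 6, 5, 3, 4, 2, 1]
  invFun := ![0, 6, 5, 3, 4, 2, 1]
  left_inv := by unfold Function.LeftInverse; decide
  right_inv := by unfold Function.RightInverse Function.LeftInverse; decide

theorem ok : dat.OK where
  mem := by decide +kernel
  odd := by decide
  order hp := orderOf_permOf hp _ (by decide +kernel)
  prime := by norm_num [dat]
  basis_lat := by decide +kernel
  basis_fix := by decide +kernel
  basis_len := by decide +kernel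
  span i := ⟨bitsF 6 (spanM.getD i.val 0), by revert i; decide +kernel⟩
  indep := by decide +kernel

/-- The classes of norm 64. -/
def normS : Finset dat.F := (normK.map (bitsF 6)).toFinset

/-- The short representative. -/
def short (m : dat.F) : List ℤ :=
  tabN fun j => (Mathieu.app (shortK.getD (numF m) 0) j : ℤ) - 32

theorem bits_numF : ∀ m : dat.F, bitsF dat.d (numF m) = m ∧ numF m < 64 := by decide +kernel

theorem numF_bits : ((List.range 64).all fun x => numF (bitsF 6 x) == x) = true := by decide +kernel

theorem type_all : ((List.range 64).all fun x =>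
    strictL (tabN fun j => (Mathieu.app (shortK.getD x 0) j : ℤ) - 32) fun s =>
      inLB (toVec s) && congB s (dat.combL (bitsF dat.d x)) &&
        (if normK.contains x then dotL s s == 64 else decide (dotL s s < 64))) = true := by
  decide +kernel

theorem normK_lt : (normK.all fun x => decide (x < 64)) = true := by decide +kernel

theorem mem_normS {m : dat.F} : m ∈ normS ↔ normK.contains (numF m) = true := by
  rw [List.contains_iff_mem]
  refine Iff.trans List.mem_toFinset (List.mem_map.trans ?_)
  constructor
  · rintro ⟨x, hx, rfl⟩
    have h1 := List.all_eq_true.1 normK_lt x hx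
    have h2 := List.all_eq_true.1 numF_bits x (List.mem_range.2 (of_decide_eq_true h1))
    exact (beq_iff_eq.1 h2).symm ▸ hx
  · exact fun h => ⟨_, h, (bits_numF m).1⟩

theorem typeCert : dat.TypeCert normS short := by
  intro m
  have h := List.all_eq_true.1 type_all (numF m) (List.mem_range.2 (bits_numF m).2)
  simp only [strictL_eq, (bits_numF m).1, Bool.and_eq_true] at h
  refine ⟨h.1.1, h.1.2, ?_⟩
  have h' := h.2
  simp only [short]
  by_cases hm : normK.contains (numF m) = true
  · rw [if_pos hm] at h'
    rw [if_pos (mem_normS.2 hm)]
    exact beq_iff_eq.1 h'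
  · rw [if_neg hm] at h'
    rw [if_neg fun h => hm (mem_normS.1 h)]
    exact of_decide_eq_true h'

theorem card_normS : normS.card = 14 := by decide +kernel

/-- The family. -/
def fam (i : Fin 7) : Finset dat.F := ((famK.getD i.val []).map (bitsF 6)).toFinset

theorem fam_injective : Function.Injective fam := by
  unfold Function.Injective
  decide +kernel

/-- Generator. -/
def gen0 : dat.Gen 7 fam where
  w := word0
  cols k := bitsF 6 (([58, 59, 36, 24, 48, 16] : List ℕ).getD k.val 0)
  τ := perm0
  ok := by decide +kernel
  comm := by decide +kernel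
  img := by decide +kernel
  maps := by decide +kernel

/-- Generator. -/
def gen1 : dat.Gen 7 fam where
  w := word1
  cols k := bitsF 6 (([1, 7, 4, 13, 52, 32] : List ℕ).getD k.val 0)
  τ := perm1
  ok := by decide +kernel
  comm := by decide +kernel
  img := by decide +kernel
  maps := by decide +kernel

/-- The subgroup generated by the two permutations. -/
def genH : Subgroup (Perm (Fin 7)) := Subgroup.closure {τ | ∃ a ∈ [gen0, gen1], a.τ = τ}

theorem word_mem (l : List Bool) : (l.map fun b => if b then perm1 else perm0).prod ∈ genH := by
  refine Subgroup.list_prod_mem _ fun x hx => ?_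
  obtain ⟨b, -, rfl⟩ := List.mem_map.1 hx
  cases b
  · exact Subgroup.subset_closure ⟨gen0, List.mem_cons_self, rfl⟩
  · exact Subgroup.subset_closure ⟨gen1, List.mem_cons_of_mem _ List.mem_cons_self, rfl⟩

theorem mem_genH {x : Perm (Fin 7)} (l : List Bool)
    (h : (l.map fun b => if b then perm1 else perm0).prod = x) : x ∈ genH := h ▸ word_mem l

theorem card_cent : Nat.card (Subgroup.centralizer ({ok.σ} : Set M24)) ≤ 42 :=
  by
  have hS : Nat.card (Subgroup.zpowers ok.σ) = 7 := by
    rw [Nat.card_zpowers, ok.orderOf_σ]; rfl
  have e : Subgroup.centralizer ({ok.σ} : Set M24) =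
      Subgroup.centralizer ((Subgroup.zpowers ok.σ : Subgroup M24) : Set M24) := by
    rw [Subgroup.zpowers_eq_closure, Subgroup.centralizer_closure]
  rw [e, (Mathieu.seven_facts _ hS).2.1]

theorem code_fixed_list :
    (Mathieu.codeList.all fun m => !fixMask dat.li m || codeK.contains m) = true := by
  decide +kernel

/-- Words for the transvections. -/
def transW : List (List Bool) := [
  [],
  [true, false, false, true, false, true, false, false, true, false],
  [true, false, false, true, false, true],
  [true, false, false, true, false, false, true, false, true, false, true],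
  [],
  [true, false, true, false, true, false, false, true, false, true, false, true],
  [true, false, true, false, true, false, true, false, false, true, false, true, false],
  [false, false, true, false, true, false, false, true, false],
  []]

theorem seven_le_genH : sevenHom.range ≤ genH :=
  sevenRange_le fun i j hij => mem_genH (transW.getD (3 * i.val + j.val) []) (by
    revert i j; decide +kernel)

/-- Words inverting `g`, mapping the standard class onto the other seven classes. -/
def invW : List (List Move) := [
  [some (0x80416120b0f130611050c150e100301090a000714170d02, 11580622), none, some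
    (0x60512020401070b0a0c1403110d0f16000809150e131017, 39257), none, some
    (0xe0c0605071514000f0416110912130b10010a0817020d03, 14240676), none, some
    (0x8121411090c01000a0b070213030e10050f040d06161517, 18147), none, some
    (0x14041605110e06010a0213080f1507120d09100b0c0317, 1015007)],
  [some (0xe0b050602140a001104150f101217090c1316030d080107, 6837377), none, some
    (0x8121411090c01000a0b070213030e10050f040d06161517, 18147), none, some
    (0x14041605110e06010a0213080f1507120d09100b0c0317, 1015007)],
  [some (0x80416120b0f130611050c150e100301090a000714170d02, 11580622), none, some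
    (0x60512020401070b0a0c1403110d0f16000809150e131017, 39257), none, some
    (0x8091216020c0f061505001101100a040e0d1317030b1407, 7674098), none, some
    (0x60512020401070b0a0c1403110d0f16000809150e131017, 39257), none, some
    (0xe0c0605071514000f0416110912130b10010a0817020d03, 14240676), none, some
    (0x8121411090c01000a0b070213030e10050f040d06161517, 18147), none, some
    (0x14041605110e06010a0213080f1507120d09100b0c0317, 1015007)],
  [some (0x120702030c10040a13000e1606170111090d0b0f14081505, 5473687), none, some
    (0x110d05060e0b120c0f070a09100816130301141504000217, 15777), none, some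
    (0x170e000c0b1607111502090d0f0a06080114051210040313, 1327290)],
  [some (0x80416120b0f130611050c150e100301090a000714170d02, 11580622), none, some
    (0x60512020401070b0a0c1403110d0f16000809150e131017, 39257), none, some
    (0x12090302050e100a16000b1311170d0706150408010c140f, 15242193), none, some
    (0x110d05060e0b120c0f070a09100816130301141504000217, 15777), none, some
    (0x170e000c0b1607111502090d0f0a06080114051210040313, 1327290)],
  [some (0xc06090f101300041707011411030215160e0b120d080a05, 14919680), none, some
    (0xc0e000214060d11090f050313121015081601070b040a17, 5279), none, some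
    (0x170e00090c160d1310110302150b050406121401080f0a07, 307594)],
  [some (0x130310070f140b010e040900051116080a06120c15020d17, 2369467), none, some
    (0x60512020401070b0a0c1403110d0f16000809150e131017, 39257), none, some
    (0x8091216020c0f061505001101100a040e0d1317030b1407, 7674098), none, some
    (0x60512020401070b0a0c1403110d0f16000809150e131017, 39257), none, some
    (0xe0c0605071514000f0416110912130b10010a0817020d03, 14240676), none, some
    (0x8121411090c01000a0b070213030e10050f040d06161517, 18147), none, some
    (0x14041605110e06010a0213080f1507120d09100b0c0317, 1015007)]]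

/-- The other seven classes. -/
def otherK : List ℕ := [11, 18, 25, 33, 42, 51, 56]

theorem inv_ok : ∀ i : Fin 7, (invW.getD i.val []).all moveOK = true ∧
    intertwB dat.li 0x70a0b121008060416150c11090e0f0d0514130317020100 (invW.getD i.val []) = true ∧
    congB (wordL (invW.getD i.val []) (tabN fun j => if j = 23 then 8 else 0))
      (dat.combL (bitsF 6 (otherK.getD i.val 0))) = true := by
  decide +kernel

/-- The orbit. -/
def orbS : Finset dat.F := Finset.univ.biUnion fam

theorem card_orbS : orbS.card = 7 := by decide +kernel

theorem mem_cases : ∀ m : dat.F, m ∈ normS →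
    m ∈ orbS ∨ ∃ i : Fin 7, m = bitsF dat.d (otherK.getD i.val 0) := by
  decide +kernel

theorem no_inverter (τ : M24) : τ * ok.σ ≠ ok.σ⁻¹ * τ := by
  intro e
  have hx : ((ok.σ⁻¹ : M24) : Perm GolayPt) = Mathieu.decode Mathieu.sevenElt :=
    (rep_inv_coe ok.mem).unique Mathieu.sevenElt_rep.2
  have h7 : ok.σ = (ok.σ⁻¹) ^ (5 + 1) := by
    have h : (ok.σ⁻¹) ^ 7 = 1 := by
      rw [inv_pow, show (7 : ℕ) = dat.p from rfl, ← ok.orderOf_σ, pow_orderOf_eq_one, inv_one]
    rw [pow_succ, mul_inv_eq_one] at h
    exact h.symm
  have hc : τ * ok.σ⁻¹ = (ok.σ⁻¹) ^ (5 + 1) * τ := by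
    rw [← h7]
    calc τ * ok.σ⁻¹ = ok.σ * (ok.σ⁻¹ * τ) * ok.σ⁻¹ := by group
      _ = ok.σ * (τ * ok.σ) * ok.σ⁻¹ := by rw [e]
      _ = ok.σ * τ := by group
  obtain ⟨l, hl, -⟩ := Mathieu.sevenFix_mem (c := (τ : Perm GolayPt)) τ.2 (j := 5) (by norm_num) (by
    rw [← hx, ← Subgroup.coe_pow, ← Subgroup.coe_mul, ← Subgroup.coe_mul, hc])
  have hnone : (Mathieu.sevenFix.all fun q => q.1 != 6) = true := by decide +kernel
  simpa using List.all_eq_true.1 hnone _ hl

theorem orbit_orbS (h : ok.C0) : ok.coord ((h : Co0) • eight none) ∈ orbS := by
  refine (mem_cases _ (ok.orbit_mem typeCert h)).resolve_right ?_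
  rintro ⟨i, hi⟩
  obtain ⟨h1, h2, h3⟩ := inv_ok i
  have hlf : Mathieu.mem24 0x70a0b121008060416150c11090e0f0d0514130317020100 = true := by decide +kernel
  have hk := intertwine_of_B ok.mem hlf h1 h2
  rw [permOf_inv ok.mem hlf (by decide +kernel), map_inv] at hk
  refine ok.coord_ne_of_inverter no_inverter hk ?_ h hi
  exact clsV_of_congB h3 (toVec_wordL h1 _ _ (toVec_eight none)) (ok.comb_val _)

theorem card_C0 : Nat.card ok.C0 ≤ 2 * dat.p * Nat.card sevenHom.range := by
  refine (ok.card_C0_le orbS orbit_orbS card_cent code_fixed_list).trans ?_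
  rw [card_sevenRange, card_orbS]
  decide +kernel

theorem exists_quot :
    ∃ Ψ : ok.C0 →* Perm (Fin 7), Ψ.range = sevenHom.range ∧
      (∀ h, Ψ h = 1 ↔ (h : Co0) ∈ ok.Z) ∧ ∀ h, (∀ m, ok.act h m = m) → Ψ h = 1 :=
  ok.exists_quot fam fam_injective [gen0, gen1] _ seven_le_genH card_C0

end Cfsg.Agent.Leech.Fixed.Seven
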