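/-
An element of `Co0` inverting the element of order 7 and conjugate to a sign change, an element of
M24 squaring it, and two fixed classes of norm 64 with odd product.
-/
import Cfsg.Agent.Lib.Leech.Fixed.Seven

set_option autoImplicit false
set_option maxRecDepth 100000
set_option maxHeartbeats 4000000

namespace Cfsg.Agent.Leech.Fixed

open Cfsg Cfsg.Agent.Leech Equiv

/-- Two words with the same columns. -/
def colsB (w w' : List Move) : Bool :=
  (List.range 24).all fun k =>
    wordL w (tabN fun j => if j = k then 8 else 0) == wordL w' (tabN fun j => if j = k then 8 else 0)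

theorem wordElt_eq_of_colsB {w w' : List Move} (hw : w.all moveOK = true)
    (hw' : w'.all moveOK = true) (h : colsB w w' = true) : wordElt w = wordElt w' := by
  simp only [colsB, List.all_eq_true, List.mem_range, beq_iff_eq] at h
  refine co0_ext _ _ fun i => Subtype.ext ?_
  rw [toVec_wordL hw _ _ (toVec_eight i), toVec_wordL hw' _ _ (toVec_eight i)]
  exact congrArg toVec (h _ (Mathieu.ptEnc i).isLt)

theorem wordElt_append (w w' : List Move) : wordElt (w ++ w') = wordElt w * wordElt w' := by
  simp [wordElt]

theorem wordElt_mono {li c : ℕ} (h : Mathieu.mem24 li = true) (hc : Mathieu.inCode c = true) :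
    wordElt [some (li, c)] =
      signElt (Mathieu.wordOf c) (Mathieu.wordOf_mem_of_inCode hc) * permHom (permOf li h) := by
  rw [wordElt, List.map_singleton, List.prod_singleton, moveElt, dif_pos ⟨h, hc⟩]

namespace Seven

/-- The packed identity. -/
def liId : ℕ := 0x17161514131211100f0e0d0c0b0a09080706050403020100

/-- The packed inverse of the inverse. -/
def liInv : ℕ := 0x70a0b121008060416150c11090e0f0d0514130317020100

/-- A word conjugating a sign change to an element inverting `g`. -/
def wM : List Move := [some (0x17080d0e050a13150c0b010f0412160306070214091110, 13442945), none,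
  some (0x805121011171314090006020e16030f0b0a04070c01150d, 1366499), none,
  some (0x413150203090a07050d01000b0e080f1014060c11121617, 18147), none]

/-- The inverting element. -/
def wK : List Move := [some (0x17080d0e050a13150c0b010f0412160306070214091110, 13442945), none,
  some (0x805121011171314090006020e16030f0b0a04070c01150d, 1366499), none,
  some (0x413150203090a07050d01000b0e080f1014060c11121617, 18147), none,
  some (0x17161514131211100f0e0d0c0b0a09080706050403020100, 14687693), none,
  some (0x1150616020307080a0e040b11120910050f1713140d0c, 13721920), none,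
  some (0x120a011011151314080b000307060f17040d1605090c020e, 10612245), none,
  some (0x16080f03100901000b13140e0d1102150506120a07040c17, 13484091)]

/-- The sign change. -/
def wE : List Move := [some (0x17161514131211100f0e0d0c0b0a09080706050403020100, 14687693)]

/-- A permutation squaring `σ`. -/
def wA : List Move := [some (0x170e1614040c0605091511080b0f0a12100d070313020100, 0)]

theorem rels :
    (wM.all moveOK && wK.all moveOK && wE.all moveOK && wA.all moveOK &&
      [some (dat.li, 0), some (liInv, 0)].all moveOK) = true ∧
    colsB (wK ++ wM) (wM ++ wE) = true ∧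
    colsB (wK ++ [some (dat.li, 0)]) ([some (liInv, 0)] ++ wK) = true ∧
    colsB ([some (dat.li, 0)] ++ [some (liInv, 0)]) [] = true ∧
    colsB (wA ++ [some (dat.li, 0)]) ([some (dat.li, 0), some (dat.li, 0)] ++ wA) = true := by
  decide +kernel

theorem wordElt_g : wordElt [some (dat.li, 0)] = ok.g := by
  rw [wordElt_mono ok.mem (by decide +kernel)]
  refine mul_eq_right.2 ?_
  refine eq_of_smul_eq_smul (α := leechLattice) fun v => Subtype.ext ?_
  rw [signElt_smul, one_smul]
  funext i
  simp [signFun, mem_supp, Mathieu.wordOf, Mathieu.hasPt]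

theorem wordElt_liInv : wordElt [some (liInv, 0)] = ok.g⁻¹ := by
  obtain ⟨h, -, -, h3, -⟩ := rels
  simp only [List.all_cons, List.all_nil, Bool.and_true, Bool.and_eq_true] at h
  refine eq_inv_of_mul_eq_one_right ?_
  rw [← wordElt_g, ← wordElt_append, wordElt_eq_of_colsB (by simp [h.2.1, h.2.2]) rfl h3]
  rfl

theorem wordElt_wE : wordElt wE ∈ signGrp := by
  have hid : permOf liId (by decide +kernel) = 1 := Subtype.ext
    (inv_eq_one.1 ((Subgroup.coe_inv _ _).symm.trans
      ((rep_inv_coe (by decide +kernel)).eq_one (by decide +kernel))))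
  rw [wE, show (0x17161514131211100f0e0d0c0b0a09080706050403020100 : ℕ) = liId from rfl,
    wordElt_mono (by decide +kernel) (by decide +kernel), hid, map_one, mul_one]
  exact ⟨_, _, rfl⟩

/-- An element inverting `g` is conjugate to a sign change. -/
theorem exists_inverter : ∃ m ε : Co0, ε ∈ signGrp ∧
    m * ε * m⁻¹ * ok.g = ok.g⁻¹ * (m * ε * m⁻¹) := by
  obtain ⟨h, h1, h2, -, -⟩ := rels
  simp only [List.all_cons, List.all_nil, Bool.and_true, Bool.and_eq_true] at h
  obtain ⟨⟨⟨⟨hM, hK⟩, hE⟩, -⟩, hG, hI⟩ := h
  have e1 := wordElt_eq_of_colsB (by rw [List.all_append, hK, hM]; rfl)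
    (by rw [List.all_append, hM, hE]; rfl) h1
  have e2 := wordElt_eq_of_colsB (by simp [hK, hG]) (by simp [hK, hI]) h2
  rw [wordElt_append, wordElt_append] at e1
  rw [wordElt_append, wordElt_append, wordElt_g, wordElt_liInv] at e2
  refine ⟨wordElt wM, wordElt wE, wordElt_wE, ?_⟩
  rw [← e1, mul_inv_cancel_right]
  exact e2

/-- An element squaring `g`. -/
theorem exists_squarer : ∃ a : Co0, a * ok.g = ok.g * ok.g * a := by
  obtain ⟨h, -, -, -, h4⟩ := rels
  simp only [List.all_cons, List.all_nil, Bool.and_true, Bool.and_eq_true] at h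
  obtain ⟨⟨-, hA⟩, hG, hI⟩ := h
  have e := wordElt_eq_of_colsB (by simp [hA, hG]) (by simp [hA, hG]) h4
  rw [show ([some (dat.li, 0), some (dat.li, 0)] : List Move) =
    [some (dat.li, 0)] ++ [some (dat.li, 0)] from rfl] at e
  simp only [wordElt_append, wordElt_g] at e
  exact ⟨_, e⟩

theorem odd_pair : ∃ m ∈ normS, ∃ m' ∈ normS,
    ¬ (16 : ℤ) ∣ dotL (dat.combL m) (dat.combL m') := by
  decide +kernel

end Seven

end Cfsg.Agent.Leech.Fixed
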