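/-
Fixed classes of norm 64 of the element of order 7 moved at most by the standard class under the sign
changes: only the standard class.
-/
import Cfsg.Agent.Lib.Leech.Fixed.Seven

set_option autoImplicit false
set_option maxRecDepth 100000

namespace Cfsg.Agent.Leech.Fixed.Seven

open Cfsg Cfsg.Agent.Leech

/-- A word of the code. -/
def pairMask : ℕ := 0xc75001

/-- The standard class. -/
def eightL : List ℤ := tabN fun j => if j = 23 then 8 else 0

/-- The sign change of the word on lists. -/
def flipL (L : List ℤ) : List ℤ := tabN fun j => if pairMask.testBit j then -(L.getD j 0) else L.getD j 0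

/-- Vectors detecting non-congruence. -/
def detK : List (List ℤ) :=
  [tabN (fun j => if j = 0 ∨ j = 1 then 4 else 0),
   tabN (fun j => if (0x49f002 : ℕ).testBit j then 2 else 0),
   tabN (fun j => if (0xd4b004 : ℕ).testBit j then 2 else 0)]

/-- Some listed vector detects that the two lists are not congruent. -/
def detB (A B : List ℤ) : Bool :=
  detK.any fun X => inLB (toVec X) && !decide (16 ∣ dotL A X - dotL B X)

theorem pair_check : (normK.all fun x =>
    congB (dat.combL (bitsF dat.d x)) eightL ||
      (strictL (dat.combL (bitsF dat.d x)) fun A => strictL (flipL A) fun B =>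
        detB B A && detB B (tabN fun j => A.getD j 0 + eightL.getD j 0))) = true := by
  decide +kernel

theorem pairMask_code : Mathieu.wordOf pairMask ∈ golayCode :=
  Mathieu.wordOf_mem_of_inCode (by decide +kernel)

theorem toVec_flipL (L : List ℤ) (v : leechLattice) (hv : (v : GolayPt → ℤ) = toVec L) :
    ((signElt (Mathieu.wordOf pairMask) pairMask_code • v : leechLattice) : GolayPt → ℤ) =
      toVec (flipL L) := by
  rw [signElt_smul, hv]
  funext i
  simp only [signFun, flipL, toVec_tabN, mem_supp, Mathieu.wordOf, Mathieu.hasPt]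
  by_cases hb : pairMask.testBit (Mathieu.ptEnc i).val = true <;> simp [hb, toVec]

theorem not_cls_of_detB {A B : List ℤ} (h : detB A B = true) {v w : leechLattice}
    (hv : (v : GolayPt → ℤ) = toVec A) (hw : (w : GolayPt → ℤ) = toVec B) : clsV v ≠ clsV w := by
  obtain ⟨X, -, hX⟩ := List.any_eq_true.1 h
  simp only [Bool.and_eq_true, Bool.not_eq_true', decide_eq_false_iff_not] at hX
  intro e
  have h16 := sixteen_dvd_dot e (lat X hX.1)
  rw [hv, hw, show ((lat X hX.1 : leechLattice) : GolayPt → ℤ) = toVec X from rfl,
    dotInt_toVec, dotInt_toVec] at h16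
  exact hX.2 h16

/-- A fixed class of norm 64 moved at most by the standard class under a sign change is standard. -/
theorem cls_eight_of_sign {m : dat.F} (hm : m ∈ normS)
    (h : ∀ a ∈ signGrp, clsV (a • ok.comb m) = clsV (ok.comb m) ∨
      clsV (a • ok.comb m) = clsV (ok.comb m + eight none)) :
    clsV (ok.comb m) = clsV (eight none) := by
  have h1 := List.all_eq_true.1 pair_check (numF m)
    (List.contains_iff_mem.1 (mem_normS.1 hm))
  simp only [strictL_eq, (bits_numF m).1, Bool.or_eq_true, Bool.and_eq_true] at h1
  have h8 : (eight none : GolayPt → ℤ) = toVec eightL := toVec_eight none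
  rcases h1 with h1 | ⟨ha, hb⟩
  · exact clsV_of_congB h1 (ok.comb_val m) h8
  have hs : ((signElt (Mathieu.wordOf pairMask) pairMask_code • ok.comb m : leechLattice) :
      GolayPt → ℤ) = toVec (flipL (dat.combL m)) := toVec_flipL _ _ (ok.comb_val m)
  rcases h _ ⟨_, pairMask_code, rfl⟩ with e | e
  · exact absurd e (not_cls_of_detB ha hs (ok.comb_val m))
  · refine absurd e (not_cls_of_detB hb hs ?_)
    rw [AddSubgroup.coe_add, ok.comb_val m, h8]
    funext i
    exact (toVec_tabN (fun j => (dat.combL m).getD j 0 + eightL.getD j 0) i).symm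

end Cfsg.Agent.Leech.Fixed.Seven
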